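/-
A rank one pair of root groups over a finite field: the torus elements multiply.
-/
import Cfsg.Agent.Lib.CurtisTits.Symbol

set_option autoImplicit false
set_option linter.unusedSectionVars false
set_option maxHeartbeats 1000000

namespace Cfsg.Agent.StLinear

open Cfsg.Agent.Chev.CT (exists_nonsquare_succ)

variable {K : Type*} [Field K] {C : Type*} [Group C]

/-- The Weyl element of a pair of root groups. -/
def nT (X Y : K → C) (t : K) : C := X t * Y (-t⁻¹) * X t

/-- The torus element of a pair of root groups. -/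
def hT (X Y : K → C) (t : K) : C := nT X Y t * nT X Y (-1)

/-- A rank one pair. -/
structure RankOne (X Y : K → C) : Prop where
  addX : ∀ a b, X a * X b = X (a + b)
  addY : ∀ a b, Y a * Y b = Y (a + b)
  hX : ∀ t u, t ≠ 0 → hT X Y t * X u * (hT X Y t)⁻¹ = X (t ^ 2 * u)
  hY : ∀ t u, t ≠ 0 → hT X Y t * Y u * (hT X Y t)⁻¹ = Y ((t ^ 2)⁻¹ * u)
  nX : ∀ c d, c ≠ 0 → nT X Y c * X d = Y (-(d / c ^ 2)) * nT X Y c
  central : ∀ t u, t ≠ 0 → u ≠ 0 → hT X Y t * hT X Y u * (hT X Y (t * u))⁻¹ ∈ Subgroup.center C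

variable [Finite K] {X Y : K → C} (R : RankOne X Y)
include R

theorem X_inv (a : K) : (X a)⁻¹ = X (-a) := by
  have h0 := R.addX 0 0
  rw [add_zero] at h0
  refine inv_eq_of_mul_eq_one_right ?_
  rw [R.addX, add_neg_cancel]
  exact left_eq_mul.1 h0.symm

theorem Y_inv (a : K) : (Y a)⁻¹ = Y (-a) := by
  have h0 := R.addY 0 0
  rw [add_zero] at h0
  refine inv_eq_of_mul_eq_one_right ?_
  rw [R.addY, add_neg_cancel]
  exact left_eq_mul.1 h0.symm

theorem nT_neg (t : K) : nT X Y (-t) = (nT X Y t)⁻¹ := by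
  rw [nT, nT, mul_inv_rev, mul_inv_rev, X_inv R, Y_inv R, inv_neg, mul_assoc]

theorem hI_central {t u : K} (ht : t ≠ 0) (hu : u ≠ 0) :
    hT X Y t * hT X Y u * (hT X Y (t * u))⁻¹ ∈ Subgroup.center C := R.central t u ht hu

theorem hI_one : hT X Y (1 : K) = 1 := by
  rw [hT, nT_neg R, mul_inv_cancel]

theorem hI_commute {t u : K} (ht : t ≠ 0) (hu : u ≠ 0) :
    Commute (hT X Y t) (hT X Y u) := by
  obtain ⟨v, hv⟩ := IsCyclic.exists_monoid_generator (α := Kˣ)
  have key : ∀ n : ℕ, ∃ z ∈ Subgroup.center C,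
      hT X Y ((v : K) ^ n) = z * hT X Y (v : K) ^ n := by
    intro n
    induction n with
    | zero => exact ⟨1, one_mem _, by simp [hI_one R]⟩
    | succ n ih =>
      obtain ⟨z, hz, e⟩ := ih
      have hc := hI_central R (pow_ne_zero n v.ne_zero) v.ne_zero
      set c := hT X Y ((v : K) ^ n) * hT X Y (v : K) *
        (hT X Y ((v : K) ^ n * (v : K)))⁻¹ with hcdef
      refine ⟨c⁻¹ * z, mul_mem (inv_mem hc) hz, ?_⟩
      rw [pow_succ, pow_succ, show c⁻¹ * z * (hT X Y (v : K) ^ n * hT X Y (v : K)) =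
        c⁻¹ * (z * hT X Y (v : K) ^ n) * hT X Y (v : K) by group, ← e, hcdef]
      group
  obtain ⟨n, hn⟩ := (Submonoid.mem_powers_iff _ _).1 (hv (Units.mk0 t ht))
  obtain ⟨m, hm⟩ := (Submonoid.mem_powers_iff _ _).1 (hv (Units.mk0 u hu))
  have hn' : t = (v : K) ^ n := by
    have := congrArg Units.val hn
    simp at this
    exact this.symm
  have hm' : u = (v : K) ^ m := by
    have := congrArg Units.val hm
    simp at this
    exact this.symm
  obtain ⟨z, hz, ez⟩ := key n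
  obtain ⟨z', hz', ez'⟩ := key m
  rw [hn', hm', ez, ez']
  have c1 : ∀ g, Commute z g := fun g => (Subgroup.mem_center_iff.1 hz g).symm
  have c2 : ∀ g, Commute z' g := fun g => (Subgroup.mem_center_iff.1 hz' g).symm
  exact ((c1 _).mul_left ((c2 _).symm.mul_right (Commute.pow_pow (Commute.refl _) n m)))

theorem nI_conj {t : K} (ht : t ≠ 0) (s : K) :
    hT X Y t * nT X Y s * (hT X Y t)⁻¹ =
      nT X Y (t ^ 2 * s) := by
  have h1 := fun w => R.hX t w ht
  have h2 := fun w => R.hY t w ht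
  rw [nT, show ∀ g a b : C, g * (a * b * a) * g⁻¹ = g * a * g⁻¹ * (g * b * g⁻¹) * (g * a * g⁻¹) from
    fun g a b => by group, h1, h2, nT, mul_inv, mul_neg]

theorem hI_sq_mul {t u : K} (ht : t ≠ 0) (hu : u ≠ 0) :
    hT X Y (t ^ 2 * u) = hT X Y (t ^ 2) * hT X Y u := by
  set N := fun s : K => nT X Y s
  have e : hT X Y t * hT X Y u * (hT X Y t)⁻¹ =
      hT X Y (t ^ 2 * u) * (hT X Y (t ^ 2))⁻¹ := by
    rw [hT, hT, hT, hT]
    rw [show ∀ g a b : C, g * (a * b) * g⁻¹ = g * a * g⁻¹ * (g * b * g⁻¹) from fun g a b => by group]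
    have h1 := nI_conj R ht u
    have h2 := nI_conj R ht (-1)
    rw [hT] at h1 h2
    rw [h1, h2, mul_neg_one, nT_neg R, nT_neg R]
    group
  rw [show hT X Y t * hT X Y u * (hT X Y t)⁻¹ = hT X Y u by
    rw [(hI_commute R ht hu).eq, mul_inv_cancel_right]] at e
  rw [(hI_commute R (pow_ne_zero 2 ht) hu).eq, e]
  group

/-- (R3) for a fundamental root. -/
theorem hI_mul {t u : K} (ht : t ≠ 0) (hu : u ≠ 0) :
    hT X Y t * hT X Y u = hT X Y (t * u) := by
  classical
  haveI := Fintype.ofFinite K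
  set h := fun s : K => hT X Y s with hh
  have sq : ∀ t u : K, t ≠ 0 → u ≠ 0 → IsSquare t → h t * h u = h (t * u) := by
    intro t u ht hu hsq
    obtain ⟨r, rfl⟩ := hsq
    have hr : r ≠ 0 := by rintro rfl; simp at ht
    simp only [hh]
    rw [← pow_two, ← hI_sq_mul R hr hu]
  by_cases h2 : (2 : K) = 0
  · refine sq t u ht hu ?_
    exact FiniteField.isSquare_of_char_two (CharP.ringChar_of_prime_eq_zero Nat.prime_two h2) t
  obtain ⟨v, hv, hv1, hv0⟩ := exists_nonsquare_succ h2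
  have hvne : v ≠ 0 := by rintro rfl; exact hv IsSquare.zero
  set E := h v * h v * (h (v * v))⁻¹ with hE
  have hEc : E ∈ Subgroup.center C := hI_central R hvne hvne
  have hcomm : ∀ a b : K, a ≠ 0 → b ≠ 0 → Commute (h a) (h b) := fun a b ha hb => hI_commute R ha hb
  -- the defect only depends on square classes
  have form : ∀ t u : K, t ≠ 0 → u ≠ 0 → ¬ IsSquare t → ¬ IsSquare u → h t * h u = E * h (t * u) := by
    intro t u ht hu hnt hnu
    have hq : ∀ t : K, t ≠ 0 → ¬ IsSquare t → ∃ r, r ≠ 0 ∧ t = r ^ 2 * v := by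
      intro t ht hnt
      have e1 := (quadraticChar_neg_one_iff_not_isSquare (F := K)).2 hv
      have e2 := (quadraticChar_neg_one_iff_not_isSquare (F := K)).2 hnt
      have e3 : quadraticChar K (t / v) * quadraticChar K v = quadraticChar K t := by
        rw [← map_mul, div_mul_cancel₀ _ hvne]
      rw [e1, e2] at e3
      obtain ⟨r, hr⟩ := (quadraticChar_one_iff_isSquare (div_ne_zero ht hvne)).1 (by linarith)
      refine ⟨r, fun h0 => div_ne_zero ht hvne (by rw [hr, h0, mul_zero]), ?_⟩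
      rw [pow_two, ← hr, div_mul_cancel₀ _ hvne]
    obtain ⟨r, hr, rfl⟩ := hq t ht hnt
    obtain ⟨s, hs, rfl⟩ := hq u hu hnu
    have a1 := sq (r ^ 2) v (pow_ne_zero 2 hr) hvne (IsSquare.sq r)
    have a2 := sq (s ^ 2) v (pow_ne_zero 2 hs) hvne (IsSquare.sq s)
    have a3 := sq (r ^ 2) (s ^ 2) (pow_ne_zero 2 hr) (pow_ne_zero 2 hs) (IsSquare.sq r)
    have a4 := sq (r ^ 2 * s ^ 2) (v * v) (mul_ne_zero (pow_ne_zero 2 hr) (pow_ne_zero 2 hs))
      (mul_ne_zero hvne hvne) ((IsSquare.sq r).mul (IsSquare.sq s))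
    rw [← a1, ← a2, show r ^ 2 * v * (s ^ 2 * v) = r ^ 2 * s ^ 2 * (v * v) by ring, ← a4, ← a3]
    have c1 := hcomm v (s ^ 2) hvne (pow_ne_zero 2 hs)
    calc h (r ^ 2) * h v * (h (s ^ 2) * h v) = h (r ^ 2) * (h v * h (s ^ 2)) * h v := by group
      _ = h (r ^ 2) * h (s ^ 2) * (E * h (v * v)) := by rw [c1.eq, hE]; group
      _ = E * (h (r ^ 2) * h (s ^ 2) * h (v * v)) := by
        rw [← mul_assoc, Subgroup.mem_center_iff.1 hEc (h (r ^ 2) * h (s ^ 2))]; group
  -- Steinberg's relation kills the defect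
  have hE1 : E = 1 := by
    set s := v
    have h1s : (1 : K) - s ≠ 0 := fun e => hv0 (by linear_combination -e)
    set N := nT X Y with hNdef
    have hy : ∀ σ : K, Y σ = X σ⁻¹ * N (-σ⁻¹) * X σ⁻¹ := by
      intro σ
      simp only [N]
      rw [nT, inv_neg, inv_inv, neg_neg, ← X_inv R]; group
    have hXadd : ∀ a b, X a * X b = X (a + b) := fun a b => R.addX a b
    have hnx : ∀ c d : K, c ≠ 0 → N c * X d = Y (-(d / c ^ 2)) * N c := by
      intro c d hc
      exact R.nX c d hc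
    have hxn : ∀ c e d : K, c ≠ 0 → e ≠ 0 → X d * (N c * N e) = N c * N e * X ((e / c) ^ 2 * d) := by
      intro c e d hc he'
      have hne : N c * N e = hT X Y c * (hT X Y (-e))⁻¹ := by
        simp only [N, hT]
        rw [nT_neg R, nT_neg R]; group
      rw [hne]
      have h1 := R.hX c ((e ^ 2)⁻¹ * ((e / c) ^ 2 * ((e ^ 2) / 1) * d) : K) hc
      have h2 := R.hX (-e) ((e ^ 2)⁻¹ * ((e / c) ^ 2 * d) : K) (neg_ne_zero.2 he')
      rw [neg_sq, mul_inv_cancel_left₀ (pow_ne_zero 2 he')] at h2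
      have h3 := R.hX c ((e ^ 2)⁻¹ * ((e / c) ^ 2 * d) : K) hc
      rw [show c ^ 2 * ((e ^ 2)⁻¹ * ((e / c) ^ 2 * d)) = d by field_simp] at h3
      rw [← h3, ← h2]
      group
    have e1 : Y (1 - s) * Y s = Y 1 := by
      rw [R.addY]; congr 1; ring
    have e2 : N (s / (1 - s)) * N (-(1 - s)⁻¹) * N (-s⁻¹) = N (-1) := by
      set S := (1 - s)⁻¹ + s⁻¹ with hS
      have hmid : Y (1 - s) * Y s = X 1 * (N (s / (1 - s)) * N (-(1 - s)⁻¹) * N (-s⁻¹)) * X 1 := by
        rw [hy (1 - s), hy s]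
        calc X (1 - s)⁻¹ * N (-(1 - s)⁻¹) * X (1 - s)⁻¹ * (X s⁻¹ * N (-s⁻¹) * X s⁻¹)
            = X (1 - s)⁻¹ * (N (-(1 - s)⁻¹) * (X (1 - s)⁻¹ * X s⁻¹)) * (N (-s⁻¹) * X s⁻¹) := by group
          _ = X (1 - s)⁻¹ * (Y (-(S / (-(1 - s)⁻¹) ^ 2)) * N (-(1 - s)⁻¹)) * (N (-s⁻¹) * X s⁻¹) := by
            rw [hXadd, hnx _ _ (neg_ne_zero.2 (inv_ne_zero h1s))]
          _ = (X (1 - s)⁻¹ * X (-(s / (1 - s)))) * N (s / (1 - s)) *
              (X (-(s / (1 - s))) * (N (-(1 - s)⁻¹) * N (-s⁻¹))) * X s⁻¹ := by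
            rw [hy, show (-(S / (-(1 - s)⁻¹) ^ 2))⁻¹ = -(s / (1 - s)) by rw [hS]; field_simp; ring, neg_neg]
            group
          _ = X 1 * (N (s / (1 - s)) * N (-(1 - s)⁻¹) * N (-s⁻¹)) *
              (X ((-s⁻¹ / -(1 - s)⁻¹) ^ 2 * -(s / (1 - s))) * X s⁻¹) := by
            rw [hXadd, hxn _ _ _ (neg_ne_zero.2 (inv_ne_zero h1s)) (neg_ne_zero.2 (inv_ne_zero hvne)),
              show (1 - s)⁻¹ + -(s / (1 - s)) = 1 by field_simp; ring]
            group
          _ = _ := by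
            rw [hXadd, show (-s⁻¹ / -(1 - s)⁻¹) ^ 2 * -(s / (1 - s)) + s⁻¹ = 1 by field_simp; ring]
      rw [e1, hy, inv_one] at hmid
      exact (mul_left_cancel (mul_right_cancel hmid)).symm
    -- in terms of `h`
    have e3 : h (s / (1 - s)) * (h (1 - s)⁻¹)⁻¹ * h (-s⁻¹) = h (-1) := by
      simp only [hh, hT]
      rw [← show N (s / (1 - s)) * N (-(1 - s)⁻¹) * N (-s⁻¹) * nT X Y (-1) =
        N (s / (1 - s)) * nT X Y (-1) * (nT X Y (1 - s)⁻¹ * nT X Y (-1))⁻¹ *
          (nT X Y (-s⁻¹) * nT X Y (-1)) by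
        simp only [N]; rw [nT_neg R (1 - s)⁻¹]; group, e2]
    set a := s / (1 - s)
    set b := -s⁻¹
    set d := (1 - s)⁻¹
    have ha : a ≠ 0 := div_ne_zero hvne h1s
    have hb : b ≠ 0 := neg_ne_zero.2 (inv_ne_zero hvne)
    have hd : d ≠ 0 := inv_ne_zero h1s
    have hab : a * b = -1 * d := by simp only [a, b, d]; field_simp
    have key : h a * h b = h (-1) * h d := by
      rw [← e3]
      have := (hcomm b d hb hd).eq
      calc h a * h b = h a * (h d)⁻¹ * (h d * h b) := by group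
        _ = _ := by rw [← this]; group
    have m1 : (-1 : K) ≠ 0 := neg_ne_zero.2 one_ne_zero
    have hcases : ∀ p q : K, p ≠ 0 → q ≠ 0 →
        h p * h q = (if IsSquare p ∨ IsSquare q then 1 else E) * h (p * q) := by
      intro p q hp' hq'
      split_ifs with hc
      · rcases hc with hc | hc
        · rw [one_mul]; exact sq p q hp' hq' hc
        · rw [one_mul, (hcomm p q hp' hq').eq, mul_comm p q]; exact sq q p hq' hp' hc
      · push_neg at hc
        exact form p q hp' hq' hc.1 hc.2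
    rw [hcases a b ha hb, hcases (-1) d m1 hd, hab] at key
    have keyE := mul_right_cancel key
    -- square classes
    have hs' : quadraticChar K s = -1 := (quadraticChar_neg_one_iff_not_isSquare).2 hv
    have hd' : quadraticChar K d = quadraticChar K (-1) := by
      have e4 : quadraticChar K (1 - s) = quadraticChar K (-1) := by
        rw [show (1 : K) - s = -1 * (s - 1) by ring, map_mul,
          (quadraticChar_one_iff_isSquare hv0).2 hv1, mul_one]
      have e5 : quadraticChar K d * quadraticChar K (1 - s) = 1 := by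
        rw [← map_mul, inv_mul_cancel₀ h1s, map_one]
      rw [e4] at e5
      rcases quadraticChar_dichotomy m1 with e6 | e6 <;> rw [e6] at e5 ⊢ <;> linarith
    have hsd : quadraticChar K s⁻¹ = -1 := by
      have : quadraticChar K s⁻¹ * quadraticChar K s = 1 := by rw [← map_mul, inv_mul_cancel₀ hvne, map_one]
      rw [hs'] at this; linarith
    have hqa : quadraticChar K a = - quadraticChar K (-1) := by
      simp only [a, div_eq_mul_inv, map_mul]
      rw [hs', show (1 - s)⁻¹ = d from rfl, hd']; ring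
    have hqb : quadraticChar K b = - quadraticChar K (-1) := by
      simp only [b]
      rw [show -s⁻¹ = -1 * s⁻¹ by ring, map_mul, hsd]; ring
    have iff1 : ∀ y : K, y ≠ 0 → (IsSquare y ↔ quadraticChar K y = 1) :=
      fun y hy => (quadraticChar_one_iff_isSquare hy).symm
    simp only [iff1 a ha, iff1 b hb, iff1 (-1) m1, iff1 d hd, hqa, hqb, hd'] at keyE
    rcases quadraticChar_dichotomy m1 with e6 | e6 <;> rw [e6] at keyE <;> norm_num at keyE
    · exact keyE
    · exact keyE.symm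
  by_cases h1 : IsSquare t
  · exact sq t u ht hu h1
  by_cases h3 : IsSquare u
  · rw [(hI_commute R ht hu).eq, mul_comm t u]; exact sq u t hu ht h3
  · have := form t u ht hu h1 h3
    rwa [hE1, one_mul] at this

end Cfsg.Agent.StLinear
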