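/-
The group presented by the relations of elementary matrices.
-/
import Cfsg.Agent.Lib.CTLocal.StA
import Cfsg.Agent.Lib.LinearGroups.PSL

set_option autoImplicit false
set_option linter.unusedSectionVars false

namespace Cfsg.Agent.StLinear

open Cfsg.Agent.CTLocal

/-- Off-diagonal positions. -/
abbrev Off (ι : Type*) : Type _ := {ij : ι × ι // ij.1 ≠ ij.2}

/-- The relators of elementary matrices. -/
abbrev stRels (ι K : Type*) [Field K] : Set (FreeGroup (Off ι × K)) :=
  {g : FreeGroup (Off ι × K) | ∃ (a : Off ι) (t u : K),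
      g = FreeGroup.of (a, t) * FreeGroup.of (a, u) * (FreeGroup.of (a, t + u))⁻¹} ∪
    {g | ∃ (a b : Off ι) (t u : K), a.1.1 ≠ b.1.2 ∧ a.1.2 ≠ b.1.1 ∧
      g = FreeGroup.of (a, t) * FreeGroup.of (b, u) * (FreeGroup.of (a, t))⁻¹ * (FreeGroup.of (b, u))⁻¹} ∪
    {g | ∃ (a b : Off ι) (h : a.1.1 ≠ b.1.2) (t u : K), a.1.2 = b.1.1 ∧
      g = FreeGroup.of (a, t) * FreeGroup.of (b, u) * (FreeGroup.of (a, t))⁻¹ * (FreeGroup.of (b, u))⁻¹ *
        (FreeGroup.of (⟨(a.1.1, b.1.2), h⟩, t * u))⁻¹}

/-- The presented group. -/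
abbrev St (ι K : Type*) [Field K] : Type _ := PresentedGroup (stRels ι K)

variable {ι K : Type*} [Field K] [DecidableEq ι]

/-- The generators, extended by `1` on the diagonal. -/
def xe (a b : ι) (t : K) : St ι K := if h : a ≠ b then PresentedGroup.of (⟨(a, b), h⟩, t) else 1

theorem xe_of (p : Off ι × K) : (PresentedGroup.of p : St ι K) = xe p.1.1.1 p.1.1.2 p.2 := by
  obtain ⟨⟨⟨a, b⟩, h⟩, t⟩ := p
  rw [xe, dif_pos h]

theorem stRel_xe : StA.StRel Set.univ (xe (ι := ι) (K := K)) := by
  refine ⟨fun a b _ _ hab t u => ?_, fun a b c _ _ _ hab hbc hac t u => ?_,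
    fun a b c d _ _ _ _ hab hcd hbc had t u => ?_⟩
  · have := PresentedGroup.one_of_mem (rels := stRels ι K) (Or.inl (Or.inl ⟨⟨(a, b), hab⟩, t, u, rfl⟩))
    rw [map_mul, map_mul, map_inv, mul_inv_eq_one] at this
    rw [xe, xe, xe, dif_pos hab, dif_pos hab, dif_pos hab]
    exact this
  · have := PresentedGroup.one_of_mem (rels := stRels ι K)
      (Or.inr ⟨⟨(a, b), hab⟩, ⟨(b, c), hbc⟩, hac, t, u, rfl, rfl⟩)
    rw [map_mul, map_mul, map_mul, map_mul, map_inv, map_inv, map_inv, mul_inv_eq_one] at this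
    rw [xe, xe, xe, dif_pos hab, dif_pos hbc, dif_pos hac]
    exact this
  · have := PresentedGroup.one_of_mem (rels := stRels ι K)
      (Or.inl (Or.inr ⟨⟨(a, b), hab⟩, ⟨(c, d), hcd⟩, t, u, had, hbc, rfl⟩))
    rw [map_mul, map_mul, map_mul, map_inv, map_inv, mul_inv_eq_one, mul_inv_eq_iff_eq_mul] at this
    rw [xe, xe, dif_pos hab, dif_pos hcd]
    exact this

theorem exists_hom {G : Type*} [Group G] {y : ι → ι → K → G} (hy : StA.StRel Set.univ y) :
    ∃ f : St ι K →* G, ∀ a b t, a ≠ b → f (xe a b t) = y a b t := by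
  have hrel : ∀ g ∈ stRels ι K, FreeGroup.lift (fun p : Off ι × K => y p.1.1.1 p.1.1.2 p.2) g = 1 := by
    rintro g ((⟨a, t, u, rfl⟩ | ⟨a, b, t, u, h1, h2, rfl⟩) | ⟨a, b, h, t, u, h2, rfl⟩)
    · simp only [map_mul, map_inv, FreeGroup.lift_apply_of]
      rw [hy.add _ _ trivial trivial a.2, mul_inv_cancel]
    · simp only [map_mul, map_inv, FreeGroup.lift_apply_of]
      rw [(hy.comm0 _ _ _ _ trivial trivial trivial trivial a.2 b.2 h2 h1 t u).eq]
      group
    · simp only [map_mul, map_inv, FreeGroup.lift_apply_of]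
      obtain ⟨⟨a1, a2⟩, ha⟩ := a
      obtain ⟨⟨b1, b2⟩, hb⟩ := b
      simp only at h h2 ha hb ⊢
      subst h2
      rw [hy.comm1 _ _ _ trivial trivial trivial ha hb h, mul_inv_cancel]
  refine ⟨PresentedGroup.toGroup hrel, fun a b t h => ?_⟩
  rw [xe, dif_pos h, PresentedGroup.toGroup.of]

theorem closure_xe : Subgroup.closure {g : St ι K | ∃ a b t, a ≠ b ∧ g = xe a b t} = ⊤ := by
  rw [eq_top_iff, ← PresentedGroup.closure_range_of (stRels ι K), Subgroup.closure_le]
  rintro _ ⟨p, rfl⟩
  exact Subgroup.subset_closure ⟨_, _, _, p.1.2, xe_of p⟩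

theorem hom_ext {G : Type*} [Group G] {f g : St ι K →* G} (h : ∀ a b t, a ≠ b → f (xe a b t) = g (xe a b t)) :
    f = g :=
  PresentedGroup.ext fun p => by rw [xe_of]; exact h _ _ _ p.1.2

variable [Fintype ι]

theorem transvection_rel : StA.StRel (F := K) Set.univ
    (fun a b t => if h : a ≠ b then (Matrix.SpecialLinearGroup.transvection h t : Matrix.SpecialLinearGroup ι K) else 1) := by
  refine ⟨fun a b _ _ hab t u => Subtype.ext ?_, fun a b c _ _ _ hab hbc hac t u => ?_,
    fun a b c d _ _ _ _ hab hcd hbc had t u => Subtype.ext ?_⟩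
  · simp only [dif_pos hab, Matrix.SpecialLinearGroup.coe_mul]
    exact Matrix.transvection_mul_transvection_same _ _ hab _ _
  · rw [mul_inv_eq_iff_eq_mul, mul_inv_eq_iff_eq_mul]
    apply Subtype.ext
    simp only [dif_pos hab, dif_pos hbc, dif_pos hac, Matrix.SpecialLinearGroup.coe_mul]
    show Matrix.transvection a b t * Matrix.transvection b c u =
      Matrix.transvection a c (t * u) * Matrix.transvection b c u * Matrix.transvection a b t
    simp only [Matrix.transvection, mul_add, add_mul, one_mul, mul_one, Matrix.single_mul_single_same,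
      Matrix.single_mul_single_of_ne _ _ _ _ hac.symm, Matrix.single_mul_single_of_ne _ _ _ _ hbc.symm,
      Matrix.single_mul_single_of_ne _ _ _ _ hab.symm, zero_mul, mul_zero, add_zero]
    abel
  · simp only [dif_pos hab, dif_pos hcd, Matrix.SpecialLinearGroup.coe_mul]
    show Matrix.transvection a b t * Matrix.transvection c d u = Matrix.transvection c d u * Matrix.transvection a b t
    simp only [Matrix.transvection, mul_add, add_mul, one_mul, mul_one,
      Matrix.single_mul_single_of_ne _ _ _ _ hbc, Matrix.single_mul_single_of_ne _ _ _ _ had.symm]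
    abel

variable (ι K) in
/-- The map onto the special linear group. -/
noncomputable def toSL : St ι K →* Matrix.SpecialLinearGroup ι K :=
  (exists_hom (transvection_rel (ι := ι) (K := K))).choose

theorem toSL_xe (a b : ι) (t : K) (h : a ≠ b) :
    toSL ι K (xe a b t) = Matrix.SpecialLinearGroup.transvection h t := by
  rw [toSL, (exists_hom (transvection_rel (ι := ι) (K := K))).choose_spec a b t h, dif_pos h]

theorem toSL_surjective : Function.Surjective (toSL ι K) := by
  rw [← MonoidHom.range_eq_top, eq_top_iff, ← LinGrp.closure_transvectionSet, Subgroup.closure_le]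
  rintro _ ⟨a, b, h, t, rfl⟩
  exact ⟨xe a b t, toSL_xe a b t h⟩

theorem exists_third (h3 : 3 ≤ Fintype.card ι) (a b : ι) : ∃ m, m ≠ a ∧ m ≠ b := by
  obtain ⟨m, hm⟩ : ∃ m, m ∉ ({a, b} : Finset ι) := by
    by_contra hcon
    push Not at hcon
    have := (Finset.card_le_card (fun m (_ : m ∈ Finset.univ) => hcon m)).trans (Finset.card_le_two (a := a) (b := b))
    rw [Finset.card_univ] at this
    omega
  simp only [Finset.mem_insert, Finset.mem_singleton, not_or] at hm
  exact ⟨m, hm⟩

theorem commutator_St (h3 : 3 ≤ Fintype.card ι) : commutator (St ι K) = ⊤ := by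
  rw [eq_top_iff, ← closure_xe, Subgroup.closure_le]
  rintro _ ⟨a, b, t, hab, rfl⟩
  obtain ⟨m, hma, hmb⟩ := exists_third h3 a b
  have := (stRel_xe (ι := ι) (K := K)).comm1 a m b trivial trivial trivial hma.symm hmb hab t 1
  rw [mul_one] at this
  rw [← this]
  exact Subgroup.commutator_mem_commutator (Subgroup.mem_top _) (Subgroup.mem_top _)

theorem toSL_ker_central (h3 : 3 ≤ Fintype.card ι) : (toSL ι K).ker ≤ Subgroup.center (St ι K) :=
  StA.ker_central stRel_xe (toSL ι K) (fun a b t h => toSL_xe a b t h) h3 closure_xe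

end Cfsg.Agent.StLinear
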