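/-
Central extensions of the group presented by the relations of elementary matrices split.
-/
import Cfsg.Agent.Lib.StLinear.Pres

set_option autoImplicit false
set_option linter.unusedSectionVars false
set_option maxHeartbeats 1000000

namespace Cfsg.Agent.StLinear

open Cfsg.Agent.CTLocal
open scoped commutatorElement

section Group

variable {G C : Type*} [Group G] [Group C]

theorem elem_congr {σ : G →* C} (hc : σ.ker ≤ Subgroup.center G) {a a' b b' : G} (ha : σ a = σ a')
    (hb : σ b = σ b') : ⁅a, b⁆ = ⁅a', b'⁆ := by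
  obtain ⟨z, hz, rfl⟩ : ∃ z ∈ Subgroup.center G, a' = a * z :=
    ⟨a⁻¹ * a', hc (by rw [MonoidHom.mem_ker, map_mul, map_inv, ha, inv_mul_cancel]), by group⟩
  obtain ⟨w, hw, rfl⟩ : ∃ w ∈ Subgroup.center G, b' = b * w :=
    ⟨b⁻¹ * b', hc (by rw [MonoidHom.mem_ker, map_mul, map_inv, hb, inv_mul_cancel]), by group⟩
  have e1 := Subgroup.mem_center_iff.1 hz
  have e2 := Subgroup.mem_center_iff.1 hw
  rw [commutatorElement_def, commutatorElement_def]
  calc a * b * a⁻¹ * b⁻¹ = a * (b * z) * z⁻¹ * a⁻¹ * b⁻¹ := by group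
    _ = a * (z * b) * (z⁻¹ * a⁻¹) * b⁻¹ := by rw [e1 b]; group
    _ = a * z * b * (w * (z⁻¹ * a⁻¹)) * w⁻¹ * b⁻¹ := by rw [← e2 (z⁻¹ * a⁻¹)]; group
    _ = _ := by group

theorem elem_center {σ : G →* C} (hc : σ.ker ≤ Subgroup.center G) {a b : G} (h : Commute (σ a) (σ b)) :
    ⁅a, b⁆ ∈ Subgroup.center G :=
  hc (by rw [MonoidHom.mem_ker, map_commutatorElement, commutatorElement_eq_one_iff_commute]; exact h)

theorem elem_mul_left (a b c : G) : ⁅a * b, c⁆ = a * ⁅b, c⁆ * a⁻¹ * ⁅a, c⁆ := by
  simp only [commutatorElement_def]; group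

theorem elem_mul_right (a b c : G) : ⁅a, b * c⁆ = ⁅a, b⁆ * (b * ⁅a, c⁆ * b⁻¹) := by
  simp only [commutatorElement_def]; group

theorem elem_conj (g a b : G) : g * ⁅a, b⁆ * g⁻¹ = ⁅g * a * g⁻¹, g * b * g⁻¹⁆ := by
  simp only [commutatorElement_def]; group

theorem center_conj_eq {z : G} (hz : z ∈ Subgroup.center G) (g : G) : g * z * g⁻¹ = z := by
  rw [Subgroup.mem_center_iff.1 hz g, mul_inv_cancel_right]

theorem commute_center_lift {σ : G →* C} (hc : σ.ker ≤ Subgroup.center G) {Z a b : G}
    (hZ : σ Z ∈ Subgroup.center C) : Commute Z ⁅a, b⁆ := by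
  have h : ∀ g, σ (Z * g * Z⁻¹) = σ g := fun g => by
    rw [map_mul, map_mul, map_inv, ← Subgroup.mem_center_iff.1 hZ (σ g), mul_inv_cancel_right]
  have := elem_conj Z a b
  rw [elem_congr hc (h a) (h b)] at this
  exact mul_inv_eq_iff_eq_mul.1 this

end Group

variable {ι K : Type*} [Field K] [DecidableEq ι] [Fintype ι]

/-- The image of a root element determines the parameter. -/
theorem xe_inj {a b : ι} (hab : a ≠ b) {t u : K} (e : toSL ι K (xe a b t) = toSL ι K (xe a b u)) : t = u := by
  rw [toSL_xe a b t hab, toSL_xe a b u hab] at e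
  have := congrFun (congrFun (congrArg Subtype.val e) a) b
  change Matrix.transvection a b t a b = Matrix.transvection a b u a b at this
  simpa [Matrix.transvection, Matrix.one_apply_ne hab] using this

/-- Conjugation rules in the linear group hold in the presented group. -/
theorem conj_xe (h3 : 3 ≤ Fintype.card ι) {g : St ι K} {π : ι → ι} (hπ : Function.Injective π) {f : ι → ι → K}
    (h : ∀ a b, a ≠ b → ∀ t, toSL ι K (g * xe a b t * g⁻¹) = toSL ι K (xe (π a) (π b) (f a b * t)))
    {a b : ι} (hab : a ≠ b) (t : K) : g * xe a b t * g⁻¹ = xe (π a) (π b) (f a b * t) := by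
  obtain ⟨m, hma, hmb⟩ := exists_third h3 a b
  have hS := stRel_xe (ι := ι) (K := K)
  have e : g * xe a b t * g⁻¹ = xe (π a) (π b) (f a m * t * f m b) := by
    have e1 := hS.comm1 a m b trivial trivial trivial hma.symm hmb hab t 1
    rw [mul_one] at e1
    have e2 := hS.comm1 (π a) (π m) (π b) trivial trivial trivial (hπ.ne hma.symm) (hπ.ne hmb) (hπ.ne hab)
      (f a m * t) (f m b)
    rw [← e1, ← e2, ← commutatorElement_def, ← commutatorElement_def, elem_conj]
    exact elem_congr (toSL_ker_central h3) (h a m hma.symm t) (by rw [h m b hmb 1, mul_one])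
  rw [e]
  congr 1
  have := h a b hab t
  rw [e] at this
  exact xe_inj (hπ.ne hab) this

theorem transvection_conj_diag {d : ι → K} (hd : ∀ a, d a ≠ 0) (a b : ι) (t : K) :
    Matrix.diagonal d * Matrix.transvection a b t = Matrix.transvection a b (d a / d b * t) * Matrix.diagonal d := by
  ext i j
  rw [Matrix.diagonal_mul, Matrix.mul_diagonal]
  simp only [Matrix.transvection, Matrix.add_apply, Matrix.one_apply, Matrix.single_apply]
  have hdb : d b ≠ 0 := hd b
  split_ifs <;> simp_all <;> field_simp
  all_goals simp_all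

/-- Elements acting by the characters of a diagonal matrix. -/
theorem exists_diag (h3 : 3 ≤ Fintype.card ι) {d : ι → K} (hd : ∏ i, d i = 1) :
    ∃ g : St ι K, (toSL ι K g).1 = Matrix.diagonal d ∧
      ∀ a b, a ≠ b → ∀ t, g * xe a b t * g⁻¹ = xe a b (d a / d b * t) := by
  have hd0 : ∀ a, d a ≠ 0 := fun a h0 => by
    rw [Finset.prod_eq_zero (Finset.mem_univ a) h0] at hd
    exact zero_ne_one hd
  obtain ⟨g, hg⟩ := toSL_surjective (ι := ι) (K := K) ⟨Matrix.diagonal d, by rw [Matrix.det_diagonal, hd]⟩
  refine ⟨g, by rw [hg], fun a b hab t => conj_xe h3 (π := id) Function.injective_id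
    (f := fun a b => d a / d b) (fun a b hab t => ?_) hab t⟩
  rw [map_mul, map_mul, map_inv, mul_inv_eq_iff_eq_mul, hg, toSL_xe a b t hab, toSL_xe (id a) (id b) _ hab]
  exact Subtype.ext (transvection_conj_diag hd0 a b t)

/-- A diagonal matrix with three prescribed entries. -/
theorem exists_d3 {i j k : ι} (hij : i ≠ j) (hjk : j ≠ k) (hik : i ≠ k) {a b c : K} (h : a * b * c = 1) :
    ∃ d : ι → K, ∏ m, d m = 1 ∧ d i = a ∧ d j = b ∧ d k = c := by
  refine ⟨fun m => if m = i then a else if m = j then b else if m = k then c else 1, ?_, by simp,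
    by simp [hij.symm], by simp [hik.symm, hjk.symm]⟩
  rw [← Finset.prod_subset (Finset.subset_univ {i, j, k}) (fun m _ hm => by
    simp only [Finset.mem_insert, Finset.mem_singleton, not_or] at hm
    simp [hm.1, hm.2.1, hm.2.2]), Finset.prod_insert (by simp [hij, hik]),
    Finset.prod_insert (by simp [hjk]), Finset.prod_singleton]
  simp [hij.symm, hik.symm, hjk.symm, ← mul_assoc, h]

/-- The hypotheses on a central extension. -/
structure Ext {Γ : Type*} [Group Γ] (σ : Γ →* St ι K) (ξ : ι → ι → K → Γ) : Prop where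
  surj : Function.Surjective σ
  central : σ.ker ≤ Subgroup.center Γ
  lift : ∀ a b t, σ (ξ a b t) = xe a b t

/-- The fields allowed in small rank. -/
structure Big (ι K : Type*) [Field K] [Fintype ι] : Prop where
  three : 3 ≤ Fintype.card ι
  cube : Fintype.card ι = 3 → ∃ a : K, a ≠ 0 ∧ a ^ 3 ≠ 1
  sq : Fintype.card ι = 4 → (2 : K) ≠ 0 ∨ ∃ a : K, a ≠ 0 ∧ a ^ 2 ≠ 1

section Split

variable {Γ : Type*} [Group Γ] {σ : Γ →* St ι K} {ξ : ι → ι → K → Γ} (E : Ext σ ξ) (B : Big ι K)
include E B

theorem commC0 {a b c d : ι} (hab : a ≠ b) (hcd : c ≠ d) (hbc : b ≠ c) (had : a ≠ d) (t u : K) :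
    Commute (σ (ξ a b t)) (σ (ξ c d u)) := by
  rw [E.lift, E.lift]
  exact (stRel_xe (ι := ι) (K := K)).comm0 a b c d trivial trivial trivial trivial hab hcd hbc had t u

theorem lift_add {a b : ι} (hab : a ≠ b) (t u : K) : σ (ξ a b (t + u)) = σ (ξ a b t * ξ a b u) := by
  rw [map_mul, E.lift, E.lift, E.lift, (stRel_xe (ι := ι) (K := K)).add a b trivial trivial hab]

/-- An extra index kills the commutator. -/
theorem kill_mid {a b c d m : ι} (hab : a ≠ b) (hcd : c ≠ d) (hbc : b ≠ c) (had : a ≠ d) (hma : m ≠ a)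
    (hmb : m ≠ b) (hmc : m ≠ c) (hmd : m ≠ d) (t u : K) : Commute (ξ a b t) (ξ c d u) := by
  set g := ξ a b t
  set W := ⁅ξ c m u, ξ m d 1⁆
  have hW : σ W = σ (ξ c d u) := by
    simp only [W, commutatorElement_def, map_mul, map_inv, E.lift]
    rw [(stRel_xe (ι := ι) (K := K)).comm1 c m d trivial trivial trivial hmc.symm hmd hcd, mul_one]
  have hfix : ∀ z, Commute (σ g) (σ z) → σ (g * z * g⁻¹) = σ z := fun z hz => by
    rw [map_mul, map_mul, map_inv, hz.eq, mul_inv_cancel_right]
  have h1 : g * W * g⁻¹ = W := by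
    rw [elem_conj]
    exact elem_congr E.central (hfix _ (commC0 E B hab hmc.symm hbc hma.symm t u))
      (hfix _ (commC0 E B hab hmd hmb.symm had t 1))
  have h2 : Commute g W := mul_inv_eq_iff_eq_mul.1 h1
  rw [← commutatorElement_eq_one_iff_commute] at h2 ⊢
  rw [← h2]
  exact elem_congr E.central rfl hW.symm

theorem F_add {a b c d : ι} (hab : a ≠ b) (hcd : c ≠ d) (hbc : b ≠ c) (had : a ≠ d) (t t' u : K) :
    ⁅ξ a b (t + t'), ξ c d u⁆ = ⁅ξ a b t, ξ c d u⁆ * ⁅ξ a b t', ξ c d u⁆ := by
  have hc := fun t => elem_center E.central (commC0 E B hab hcd hbc had t u)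
  rw [elem_congr E.central (lift_add E B hab t t') rfl, elem_mul_left, center_conj_eq (hc t')]
  exact Subgroup.mem_center_iff.1 (hc t) _

/-- A diagonal element fixing one position and moving the other kills the commutator. -/
theorem kill_diag {a b c d : ι} (hab : a ≠ b) (hcd : c ≠ d) (hbc : b ≠ c) (had : a ≠ d) {f : ι → K}
    (hf : ∏ i, f i = 1) (h1 : f c / f d = 1) (h2 : f a / f b ≠ 1) (t u : K) : Commute (ξ a b t) (ξ c d u) := by
  obtain ⟨g, -, hg⟩ := exists_diag B.three hf
  obtain ⟨γ, rfl⟩ := E.surj g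
  set χ := f a / f b
  have inv : ∀ t, ⁅ξ a b (χ * t), ξ c d u⁆ = ⁅ξ a b t, ξ c d u⁆ := by
    intro t
    have := elem_conj γ (ξ a b t) (ξ c d u)
    rw [center_conj_eq (elem_center E.central (commC0 E B hab hcd hbc had t u))] at this
    rw [this]
    exact elem_congr E.central (by rw [map_mul, map_mul, map_inv, E.lift, E.lift, hg a b hab])
      (by rw [map_mul, map_mul, map_inv, E.lift, hg c d hcd, h1, one_mul])
  have := inv (t / (χ - 1))
  rw [show χ * (t / (χ - 1)) = t + t / (χ - 1) by field_simp [sub_ne_zero.2 h2]; ring,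
    F_add E B hab hcd hbc had] at this
  exact commutatorElement_eq_one_iff_commute.1 (mul_eq_right.1 this)

/-- Four indices, odd characteristic. -/
theorem kill_four {a b c d : ι} (hab : a ≠ b) (hcd : c ≠ d) (hbc : b ≠ c) (had : a ≠ d) (hac : a ≠ c)
    (hbd : b ≠ d) (h2 : (2 : K) ≠ 0) (t u : K) : Commute (ξ a b t) (ξ c d u) := by
  have hS := stRel_xe (ι := ι) (K := K)
  -- commutators with a shared row or column vanish
  have hrow : ∀ t u, Commute (ξ c b t) (ξ c d u) := fun t u =>
    kill_mid E B hbc.symm hcd hbc hcd (m := a) hac hab hac had t u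
  have hcol : ∀ t u, Commute (ξ a d t) (ξ c d u) := fun t u =>
    kill_mid E B had hcd hcd.symm had (m := b) hab.symm hbd hbc hbd t u
  set F := fun t u => ⁅ξ a b t, ξ c d u⁆
  set F' := fun t u => ⁅ξ c b t, ξ a d u⁆
  have hFc : ∀ t u, F t u ∈ Subgroup.center Γ := fun t u => elem_center E.central (commC0 E B hab hcd hbc had t u)
  have hF'c : ∀ t u, F' t u ∈ Subgroup.center Γ := fun t u =>
    elem_center E.central (commC0 E B hbc.symm had hab.symm hcd t u)
  -- decomposition through `a`
  have e1 : ∀ t w v, F t (w * v) = F' (-(w * t)) v := by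
    intro t w v
    set g := ξ a b t
    set L := ⁅ξ c a w, ξ a d v⁆
    have hL : σ L = σ (ξ c d (w * v)) := by
      simp only [L, commutatorElement_def, map_mul, map_inv, E.lift]
      exact hS.comm1 c a d trivial trivial trivial hac.symm had hcd w v
    have hA : σ (g * ξ c a w * g⁻¹) = σ (ξ c b (-(w * t)) * ξ c a w) := by
      rw [map_mul, map_mul, map_inv, map_mul, E.lift, E.lift, E.lift]
      exact hS.conj2 trivial trivial trivial hab hbc hac t w
    have hB : σ (g * ξ a d v * g⁻¹) = σ (ξ a d v) := by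
      rw [map_mul, map_mul, map_inv, (commC0 E B hab had hab.symm had t v).eq, mul_inv_cancel_right]
    have hcb : Commute (ξ c b (-(w * t))) L := by
      have := hrow (-(w * t)) (w * v)
      rw [← commutatorElement_eq_one_iff_commute] at this ⊢
      rw [← this]; exact elem_congr E.central rfl hL
    have hl : g * L * g⁻¹ = L * F' (-(w * t)) v := by
      rw [elem_conj, elem_congr E.central hA hB, elem_mul_left, hcb.eq, mul_inv_cancel_right]
    have hr : g * L * g⁻¹ = F t (w * v) * L := by
      have : ⁅g, L⁆ = F t (w * v) := elem_congr E.central rfl hL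
      rw [← this, commutatorElement_def]; group
    rw [hl, Subgroup.mem_center_iff.1 (hF'c _ _) L] at hr
    exact (mul_right_cancel hr).symm
  -- decomposition through `b`
  have e2 : ∀ t w v, F t (w * v) = F' w (t * v) := by
    intro t w v
    set g := ξ a b t
    set L := ⁅ξ c b w, ξ b d v⁆
    have hL : σ L = σ (ξ c d (w * v)) := by
      simp only [L, commutatorElement_def, map_mul, map_inv, E.lift]
      exact hS.comm1 c b d trivial trivial trivial hbc.symm hbd hcd w v
    have hB : σ (g * ξ b d v * g⁻¹) = σ (ξ a d (t * v) * ξ b d v) := by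
      rw [map_mul, map_mul, map_inv, map_mul, E.lift, E.lift, E.lift]
      exact hS.conj1 trivial trivial trivial hab hbd had t v
    have hA : σ (g * ξ c b w * g⁻¹) = σ (ξ c b w) := by
      rw [map_mul, map_mul, map_inv, (commC0 E B hab hbc.symm hbc hab t w).eq, mul_inv_cancel_right]
    have had' : Commute (ξ a d (t * v)) L := by
      have := hcol (t * v) (w * v)
      rw [← commutatorElement_eq_one_iff_commute] at this ⊢
      rw [← this]; exact elem_congr E.central rfl hL
    have hl : g * L * g⁻¹ = F' w (t * v) * L := by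
      rw [elem_conj, elem_congr E.central hA hB, elem_mul_right, had'.eq, mul_inv_cancel_right]
    have hr : g * L * g⁻¹ = F t (w * v) * L := by
      have : ⁅g, L⁆ = F t (w * v) := elem_congr E.central rfl hL
      rw [← this, commutatorElement_def]; group
    rw [hl] at hr
    exact (mul_right_cancel hr).symm
  have F'add : ∀ t t' u, F' (t + t') u = F' t u * F' t' u := fun t t' u =>
    F_add E B hbc.symm had hab.symm hcd t t' u
  have F'0 : ∀ u, F' 0 u = 1 := fun u => by
    have := F'add 0 0 u
    rw [add_zero] at this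
    exact left_eq_mul.1 this
  have hsym : ∀ w v, F' (-w) v = F' w v := fun w v => by
    have p := e1 1 w v
    rw [mul_one, e2 1 w v, one_mul] at p
    exact p.symm
  have hdouble : ∀ w v, F' (w + w) v = 1 := fun w v => by
    calc F' (w + w) v = F' w v * F' (-w) v := by rw [F'add, hsym]
      _ = _ := by rw [← F'add, add_neg_cancel, F'0]
  have hall : ∀ w v, F' w v = 1 := fun w v => by
    rw [show w = w / 2 + w / 2 by rw [← two_mul, mul_div_cancel₀ _ h2]]
    exact hdouble _ _
  have := e2 t 1 u
  rw [one_mul, hall] at this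
  exact commutatorElement_eq_one_iff_commute.1 this

/-- Lifts of commuting root elements commute. -/
theorem kill {a b c d : ι} (hab : a ≠ b) (hcd : c ≠ d) (hbc : b ≠ c) (had : a ≠ d) (t u : K) :
    Commute (ξ a b t) (ξ c d u) := by
  by_cases hm : ∃ m, m ≠ a ∧ m ≠ b ∧ m ≠ c ∧ m ≠ d
  · obtain ⟨m, h1, h2, h3, h4⟩ := hm
    exact kill_mid E B hab hcd hbc had h1 h2 h3 h4 t u
  have hall : ∀ m, m = a ∨ m = b ∨ m = c ∨ m = d := fun m => by
    by_contra h
    push Not at h
    exact hm ⟨m, h.1, h.2.1, h.2.2.1, h.2.2.2⟩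
  have h3 := B.three
  have hbound : ∀ s : Finset ι, (∀ m, m ∈ s) → Fintype.card ι ≤ s.card := fun s hs => by
    rw [← Finset.card_univ]; exact Finset.card_le_card fun m _ => hs m
  by_cases hac : a = c
  · subst hac
    by_cases hbd : b = d
    · subst hbd
      have := (hbound {a, b} fun m => by rcases hall m with e | e | e | e <;> simp [e]).trans Finset.card_le_two
      omega
    have hc3 : Fintype.card ι = 3 := le_antisymm
      ((hbound {a, b, d} fun m => by rcases hall m with e | e | e | e <;> simp [e]).trans Finset.card_le_three) h3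
    obtain ⟨e, he, he3⟩ := B.cube hc3
    obtain ⟨f, hf, fa, fb, fd⟩ := exists_d3 hab hbd had (a := e) (b := (e ^ 2)⁻¹) (c := e) (by field_simp)
    refine kill_diag E B hab hcd hbc had hf (by rw [fa, fd, div_self he]) ?_ t u
    rw [fa, fb, div_inv_eq_mul, ← pow_succ']
    exact he3
  by_cases hbd : b = d
  · subst hbd
    have hc3 : Fintype.card ι = 3 := le_antisymm
      ((hbound {a, b, c} fun m => by rcases hall m with e | e | e | e <;> simp [e]).trans Finset.card_le_three) h3
    obtain ⟨e, he, he3⟩ := B.cube hc3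
    obtain ⟨f, hf, fa, fb, fc⟩ := exists_d3 hab hbc hac (a := (e ^ 2)⁻¹) (b := e) (c := e) (by field_simp)
    refine kill_diag E B hab hcd hbc had hf (by rw [fb, fc, div_self he]) ?_ t u
    rw [fa, fb]
    intro h
    apply he3
    field_simp at h
    linear_combination -h
  have hc4 : Fintype.card ι = 4 := by
    refine le_antisymm ((hbound {a, b, c, d} fun m => by rcases hall m with e | e | e | e <;> simp [e]).trans
      Finset.card_le_four) ?_
    rw [← Finset.card_univ]
    refine le_of_eq_of_le ?_ (Finset.card_le_card (Finset.subset_univ {a, b, c, d}))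
    rw [Finset.card_insert_of_notMem (by simp [hab, hac, had]), Finset.card_insert_of_notMem (by simp [hbc, hbd]),
      Finset.card_pair hcd]
  rcases B.sq hc4 with h2 | ⟨e, he, he2⟩
  · exact kill_four E B hab hcd hbc had hac hbd h2 t u
  obtain ⟨f, hf, fa, fc, fd⟩ := exists_d3 hac hcd had (a := (e ^ 2)⁻¹) (b := e) (c := e) (by field_simp)
  have fb : f b = 1 := by
    have : (Finset.univ : Finset ι) = {a, b, c, d} :=
      (Finset.eq_univ_iff_forall.2 fun m => by rcases hall m with e | e | e | e <;> simp [e]).symm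
    rw [this, Finset.prod_insert (by simp [hab, hac, had]), Finset.prod_insert (by simp [hbc, hbd]),
      Finset.prod_pair hcd, fa, fc, fd] at hf
    field_simp at hf
    linear_combination hf
  refine kill_diag E B hab hcd hbc had hf (by rw [fc, fd, div_self he]) ?_ t u
  rw [fa, fb, div_one, ne_eq, inv_eq_one]
  exact he2

/-- The commutator attached to an intermediate index. -/
theorem s_lift {i k j : ι} (hik : i ≠ k) (hkj : k ≠ j) (hij : i ≠ j) (t u : K) :
    σ ⁅ξ i k t, ξ k j u⁆ = xe i j (t * u) := by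
  rw [map_commutatorElement, E.lift, E.lift, commutatorElement_def]
  exact (stRel_xe (ι := ι) (K := K)).comm1 i k j trivial trivial trivial hik hkj hij t u

theorem commute_lift {a b c d : ι} (hab : a ≠ b) (hcd : c ≠ d) (hbc : b ≠ c) (had : a ≠ d) {X Y : Γ} {t u : K}
    (hX : σ X = xe a b t) (hY : σ Y = xe c d u) : Commute X Y := by
  have := kill E B hab hcd hbc had t u
  rw [← commutatorElement_eq_one_iff_commute] at this ⊢
  rw [← this]
  exact elem_congr E.central (by rw [hX, E.lift]) (by rw [hY, E.lift])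

theorem s_addL {i k j : ι} (hik : i ≠ k) (hkj : k ≠ j) (hij : i ≠ j) (t t' u : K) :
    ⁅ξ i k (t + t'), ξ k j u⁆ = ⁅ξ i k t', ξ k j u⁆ * ⁅ξ i k t, ξ k j u⁆ := by
  rw [elem_congr E.central (lift_add E B hik t t') rfl, elem_mul_left,
    (commute_lift E B hik hij hik.symm hij (E.lift i k t) (s_lift E B hik hkj hij t' u)).eq, mul_inv_cancel_right]

theorem s_addR {i k j : ι} (hik : i ≠ k) (hkj : k ≠ j) (hij : i ≠ j) (t u u' : K) :
    ⁅ξ i k t, ξ k j (u + u')⁆ = ⁅ξ i k t, ξ k j u⁆ * ⁅ξ i k t, ξ k j u'⁆ := by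
  rw [elem_congr E.central rfl (lift_add E B hkj u u'), elem_mul_right,
    (commute_lift E B hkj hij hij.symm hkj (E.lift k j u) (s_lift E B hik hkj hij t u')).eq, mul_inv_cancel_right]

/-- Two intermediate indices. -/
theorem s_two {i l k j : ι} (hil : i ≠ l) (hik : i ≠ k) (hij : i ≠ j) (hlk : l ≠ k) (hlj : l ≠ j) (hkj : k ≠ j)
    (t u v : K) : ⁅ξ i l t, ξ l j (u * v)⁆ = ⁅ξ i k (t * u), ξ k j v⁆ := by
  set a := ξ i l t
  set b := ξ l k u
  set c := ξ k j v
  set L := ⁅b, c⁆
  have hL : σ L = xe l j (u * v) := s_lift E B hlk hkj hlj u v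
  have hA : σ (a * b * a⁻¹) = σ (ξ i k (t * u) * b) := by
    rw [map_mul, map_mul, map_inv, map_mul, E.lift, E.lift, E.lift]
    exact (stRel_xe (ι := ι) (K := K)).conj1 trivial trivial trivial hil hlk hik t u
  have hB : σ (a * c * a⁻¹) = σ c := by
    rw [map_mul, map_mul, map_inv, (commC0 E B hil hkj hlk hij t v).eq, mul_inv_cancel_right]
  have h1 : a * L * a⁻¹ = L * ⁅ξ i k (t * u), c⁆ := by
    rw [elem_conj, elem_congr E.central hA hB, elem_mul_left,
      (commute_lift E B hik hlj hlk.symm hij (E.lift i k (t * u)) hL).eq, mul_inv_cancel_right]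
  have h2 : a * L * a⁻¹ = ⁅ξ i l t, ξ l j (u * v)⁆ * L := by
    rw [← elem_congr E.central (a := a) (b := L) rfl (by rw [hL, E.lift]), commutatorElement_def]; group
  rw [h2, (commute_lift E B hlj hij hij.symm hlj hL (s_lift E B hik hkj hij (t * u) v)).eq] at h1
  exact mul_right_cancel h1

/-- In rank two scalars move across the commutator. -/
theorem s_three [Finite K] {i k j : ι} (hik : i ≠ k) (hkj : k ≠ j) (hij : i ≠ j) (hc3 : Fintype.card ι = 3)
    (v t u : K) : ⁅ξ i k (v * t), ξ k j u⁆ = ⁅ξ i k t, ξ k j (v * u)⁆ := by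
  classical
  haveI := Fintype.ofFinite K
  set s := fun t u => ⁅ξ i k t, ξ k j u⁆
  have hcube : ∀ c : K, c ≠ 0 → ∀ t u, s (c ^ 3 * t) u = s t (c ^ 3 * u) := by
    intro c hc t u
    obtain ⟨d, hd, di, dk, dj⟩ := exists_d3 hik hkj hij (a := c) (b := (c ^ 2)⁻¹) (c := c) (by field_simp)
    obtain ⟨g, hθ, hg⟩ := exists_diag B.three hd
    obtain ⟨γ, rfl⟩ := E.surj g
    -- the lift commutes with the lifts of the fixed root elements
    have hfix : ∀ w, Commute γ (s w 1) := by
      intro w
      have hphi : ∀ w, ⁅γ, s w 1⁆ ∈ Subgroup.center Γ := fun w => elem_center E.central (by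
        show Commute (σ γ) (σ (s w 1))
        rw [s_lift E B hik hkj hij]
        have := hg i j hij (w * 1)
        rw [di, dj, div_self hc, one_mul] at this
        exact mul_inv_eq_iff_eq_mul.1 this)
      have hadd : ∀ w w', ⁅γ, s (w + w') 1⁆ = ⁅γ, s w 1⁆ * ⁅γ, s w' 1⁆ := fun w w' => by
        show ⁅γ, ⁅ξ i k (w + w'), ξ k j 1⁆⁆ = _
        rw [s_addL E B hik hkj hij, elem_mul_right, center_conj_eq (hphi w)]
        exact (Subgroup.mem_center_iff.1 (hphi w) _)
      have hnat : ∀ m : ℕ, ⁅γ, s ((m : K) * w) 1⁆ = ⁅γ, s w 1⁆ ^ m := by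
        intro m
        induction m with
        | zero =>
          have := hadd 0 0
          rw [add_zero] at this
          rw [Nat.cast_zero, zero_mul, pow_zero]
          exact left_eq_mul.1 this
        | succ m ih => rw [Nat.cast_succ, add_mul, one_mul, hadd, ih, pow_succ]
      have hq : ⁅γ, s w 1⁆ ^ Fintype.card K = 1 := by
        rw [← hnat, Nat.cast_card_eq_zero, ← Nat.cast_zero, hnat, pow_zero]
      have hq1 : ⁅γ, s w 1⁆ ^ (Fintype.card K - 1) = 1 := by
        have hpow : ∀ m : ℕ, ⁅γ ^ m, s w 1⁆ = ⁅γ, s w 1⁆ ^ m := by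
          intro m
          induction m with
          | zero => simp
          | succ m ih =>
            rw [pow_succ, elem_mul_left, center_conj_eq (hphi w), ih, ← pow_succ']
        rw [← hpow, commutatorElement_eq_one_iff_commute]
        refine commute_center_lift E.central (toSL_ker_central B.three ?_)
        rw [MonoidHom.mem_ker, map_pow, map_pow]
        apply Subtype.ext
        rw [Matrix.SpecialLinearGroup.coe_pow, hθ, Matrix.diagonal_pow, Matrix.SpecialLinearGroup.coe_one,
          ← Matrix.diagonal_one]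
        congr 1
        funext m
        exact FiniteField.pow_card_sub_one_eq_one _ fun h0 => by
          rw [Finset.prod_eq_zero (Finset.mem_univ m) h0] at hd
          exact zero_ne_one hd
      rw [← commutatorElement_eq_one_iff_commute]
      have h1 : 1 ≤ Fintype.card K := Fintype.card_pos
      rw [← Nat.sub_add_cancel h1, pow_succ, hq1, one_mul] at hq
      exact hq
    have hfix' : ∀ t u, Commute γ (s t u) := fun t u => by
      have hh := hfix (t * u)
      rw [← commutatorElement_eq_one_iff_commute] at hh ⊢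
      rw [← hh]
      exact elem_congr E.central rfl (by rw [s_lift E B hik hkj hij, s_lift E B hik hkj hij, mul_one])
    have h1 : ∀ t u, s (c ^ 3 * t) ((c ^ 3)⁻¹ * u) = s t u := fun t u => by
      have := elem_conj γ (ξ i k t) (ξ k j u)
      rw [(hfix' t u).eq, mul_inv_cancel_right] at this
      refine (elem_congr E.central ?_ ?_).trans this.symm
      · rw [map_mul, map_mul, map_inv, E.lift, E.lift, hg i k hik, di, dk]
        congr 1; field_simp
      · rw [map_mul, map_mul, map_inv, E.lift, E.lift, hg k j hkj, dk, dj]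
        congr 1; field_simp
    have := h1 t (c ^ 3 * u)
    rwa [← mul_assoc (c ^ 3)⁻¹, inv_mul_cancel₀ (pow_ne_zero 3 hc), one_mul] at this
  let V : Subfield K :=
    { carrier := {v | ∀ t u, s (v * t) u = s t (v * u)}
      mul_mem' := fun {v w} hv hw t u => by
        show s (v * w * t) u = s t (v * w * u)
        rw [mul_assoc v w t, hv, hw, ← mul_assoc, mul_comm w v]
      one_mem' := fun t u => by rw [one_mul, one_mul]
      add_mem' := fun {v w} hv hw t u => by
        show s ((v + w) * t) u = s t ((v + w) * u)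
        rw [add_mul, add_mul, show v * t + w * t = w * t + v * t from add_comm _ _]
        show ⁅ξ i k (w * t + v * t), ξ k j u⁆ = ⁅ξ i k t, ξ k j (v * u + w * u)⁆
        rw [s_addL E B hik hkj hij, s_addR E B hik hkj hij]
        exact congrArg₂ (· * ·) (hv t u) (hw t u)
      zero_mem' := fun t u => by
        rw [zero_mul, zero_mul]
        have a := s_addL E B hik hkj hij 0 0 u
        have b := s_addR E B hik hkj hij t 0 0
        rw [add_zero] at a b
        exact (left_eq_mul.1 a).trans (left_eq_mul.1 b).symm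
      neg_mem' := fun {v} hv t u => by
        have a := hv (-t) u
        rw [mul_neg, ← neg_mul] at a
        show s (-v * t) u = s t (-v * u)
        rw [a]
        have a1 := s_addL E B hik hkj hij (-t) t (v * u)
        have b1 := s_addR E B hik hkj hij t (-v * u) (v * u)
        rw [show -v * u + v * u = 0 by ring] at b1
        rw [neg_add_cancel] at a1
        have a0 := s_addL E B hik hkj hij 0 0 (v * u)
        have b0 := s_addR E B hik hkj hij t 0 0
        rw [add_zero] at a0 b0
        rw [left_eq_mul.1 a0] at a1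
        rw [left_eq_mul.1 b0] at b1
        exact (eq_inv_of_mul_eq_one_right a1.symm).trans (eq_inv_of_mul_eq_one_left b1.symm).symm
      inv_mem' := fun v hv t u => by
        by_cases h0 : v = 0
        · subst h0
          rw [inv_zero]
          exact hv t u
        · have := hv (v⁻¹ * t) (v⁻¹ * u)
          rw [← mul_assoc, ← mul_assoc, mul_inv_cancel₀ h0, one_mul, one_mul] at this
          exact this.symm }
  suffices v ∈ V from this t u
  have hV : ∀ c : K, c ^ 3 ∈ V := fun c => by
    by_cases hc : c = 0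
    · subst hc; simp
    · exact hcube c hc
  obtain ⟨e, he, he3⟩ := B.cube hc3
  by_contra hv
  set Q := Fintype.card K
  set m := Fintype.card V
  have hm2 : m ^ 2 ≤ Q := by
    have hmQ := Module.card_eq_pow_finrank (K := V) (V := K)
    have h2 : 2 ≤ Module.finrank V K := by
      by_contra hlt
      have hlt' : Module.finrank V K ≤ 1 := by omega
      have hle : Q ≤ m := by
        rw [show Q = m ^ Module.finrank V K from hmQ]
        calc m ^ Module.finrank V K ≤ m ^ 1 := Nat.pow_le_pow_right Fintype.card_pos hlt'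
          _ = m := pow_one m
      have heq := Fintype.card_subtype_lt (p := fun x => x ∈ V) hv
      exact absurd heq (by simpa using not_lt.2 hle)
    rw [show Q = m ^ Module.finrank V K from hmQ]
    exact Nat.pow_le_pow_right Fintype.card_pos h2
  have h3m : Q ≤ 3 * m := by
    have hmap := Finset.card_le_mul_card_image (f := fun c : K => c ^ 3) Finset.univ 3 fun y _ => by
      calc _ ≤ (Polynomial.nthRoots 3 y).toFinset.card := Finset.card_le_card fun c hc => by
            simp only [Finset.mem_filter, Finset.mem_univ, true_and] at hc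
            rw [Multiset.mem_toFinset, Polynomial.mem_nthRoots (by norm_num : 0 < 3)]
            exact hc
        _ ≤ 3 := (Multiset.toFinset_card_le _).trans (Polynomial.card_nthRoots 3 y)
    have hsub : (Finset.univ.image fun c : K => c ^ 3).card ≤ m := by
      show _ ≤ Fintype.card V
      rw [Fintype.card_subtype]
      exact Finset.card_le_card fun y hy => by
        obtain ⟨c, -, rfl⟩ := Finset.mem_image.1 hy
        simpa using hV c
    rw [Finset.card_univ] at hmap
    calc Q ≤ 3 * _ := hmap
      _ ≤ 3 * m := Nat.mul_le_mul_left 3 hsub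
  have h03 : ∀ x : K, x ^ 3 = 1 → x ≠ 0 := fun x hx h0 => by simp [h0] at hx
  -- so there are at most nine elements, and one can check the remaining possibilities
  have hm3 : m ≤ 3 := by nlinarith
  have hQ9 : Q ≤ 9 := by omega
  obtain ⟨p, hp⟩ := CharP.exists K
  obtain ⟨r, hpp, hr⟩ := FiniteField.card K p
  have hQ : Q ∈ ({2, 3, 4, 5, 7, 8, 9} : Finset ℕ) := by
    have h2 : 2 ≤ Q := Fintype.one_lt_card
    by_contra hne
    simp only [Finset.mem_insert, Finset.mem_singleton, not_or] at hne
    have h6 : Q = 6 := by omega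
    have hd : p ∣ 6 := by rw [← h6, show Q = p ^ (r : ℕ) from hr]; exact dvd_pow_self p r.ne_zero
    have h7 : p ^ (r : ℕ) = 6 := by rw [← hr]; exact h6
    have := (Nat.Prime.dvd_mul hpp).1 (show p ∣ 2 * 3 from hd)
    rcases this with hp2 | hp3
    · rw [(Nat.prime_dvd_prime_iff_eq hpp Nat.prime_two).1 hp2] at h7
      have : (r : ℕ) ≤ 2 ∨ 3 ≤ (r : ℕ) := by omega
      rcases this with hr2 | hr3
      · interval_cases (r : ℕ) <;> simp at h7
      · have := Nat.pow_le_pow_right (show 0 < 2 by norm_num) hr3; omega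
    · rw [(Nat.prime_dvd_prime_iff_eq hpp Nat.prime_three).1 hp3] at h7
      have : (r : ℕ) ≤ 1 ∨ 2 ≤ (r : ℕ) := by omega
      rcases this with hr1 | hr2
      · interval_cases (r : ℕ) <;> simp at h7
      · have := Nat.pow_le_pow_right (show 0 < 3 by norm_num) hr2; omega
  have hfermat : ∀ x : K, x ≠ 0 → x ^ (Q - 1) = 1 := fun x hx => FiniteField.pow_card_sub_one_eq_one x hx
  -- when cubing is a bijection every element is a cube
  have hbij : Nat.Coprime 3 (Q - 1) → False := fun hco => hv (by
    by_cases hv0 : v = 0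
    · rw [hv0]; exact zero_mem V
    obtain ⟨n, hn⟩ := exists_pow_eq_self_of_coprime (x := Units.mk0 v hv0)
      (hco.coprime_dvd_right (orderOf_dvd_of_pow_eq_one (Units.ext (by simpa using hfermat v hv0))))
    have hvc : v = (v ^ n) ^ 3 := by
      have := congrArg Units.val hn
      simp only [Units.val_pow_eq_pow_val, Units.val_mk0] at this
      rw [← pow_mul, mul_comm, pow_mul, this]
    exact hvc ▸ hV (v ^ n))
  simp only [Finset.mem_insert, Finset.mem_singleton] at hQ
  rcases hQ with h | h | h | h | h | h | h <;> rw [h] at hbij hfermat hm2 h3m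
  · exact hbij (by decide)
  · exact hbij (by decide)
  · exact he3 (hfermat e he)
  · exact hbij (by decide)
  · have : 3 ≤ m := by omega
    nlinarith
  · exact hbij (by decide)
  · exact hbij (by decide)

/-- Lifts satisfying the relations. -/
theorem exists_rel [Finite K] : ∃ y : ι → ι → K → Γ, StA.StRel Set.univ y ∧
    ∀ a b t, a ≠ b → σ (y a b t) = xe a b t := by
  choose m hma hmb using fun a b : ι => exists_third B.three a b
  set y : ι → ι → K → Γ := fun a b t => ⁅ξ a (m a b) t, ξ (m a b) b 1⁆
  have hy : ∀ a b t, a ≠ b → σ (y a b t) = xe a b t := fun a b t hab => by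
    rw [s_lift E B (hma a b).symm (hmb a b) hab, mul_one]
  have hindep : ∀ a k b, a ≠ k → k ≠ b → a ≠ b → ∀ t u, ⁅ξ a k t, ξ k b u⁆ = y a b (t * u) := by
    intro a k b hak hkb hab t u
    by_cases hkm : k = m a b
    · by_cases h4 : ∃ l, l ≠ a ∧ l ≠ b ∧ l ≠ k
      · obtain ⟨l, hla, hlb, hlk⟩ := h4
        have e1 := s_two E B hak hla.symm hab hlk.symm hkb hlb t u 1
        rw [mul_one] at e1
        have e2 := s_two E B hla.symm hak hab hlk hlb hkb (t * u) 1 1
        rw [mul_one, mul_one] at e2
        subst hkm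
        exact e1.trans e2
      · have hc3 : Fintype.card ι = 3 := by
          refine le_antisymm ?_ B.three
          rw [← Finset.card_univ]
          refine (Finset.card_le_card (fun l _ => ?_)).trans (Finset.card_le_three (a := a) (b := b) (c := k))
          by_contra hl
          simp only [Finset.mem_insert, Finset.mem_singleton, not_or] at hl
          exact h4 ⟨l, hl⟩
        have := s_three E B hak hkb hab hc3 u t 1
        rw [mul_one, mul_comm u t] at this
        subst hkm
        exact this.symm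
    · have e1 := s_two E B hak (hma a b).symm hab hkm hkb (hmb a b) t u 1
      rw [mul_one] at e1
      exact e1
  refine ⟨y, ⟨fun a b _ _ hab t u => ?_, fun a b c _ _ _ hab hbc hac t u => ?_,
    fun a b c d _ _ _ _ hab hcd hbc had t u => ?_⟩, hy⟩
  · show _ = ⁅ξ a (m a b) (t + u), ξ (m a b) b 1⁆
    rw [s_addL E B (hma a b).symm (hmb a b) hab]
    exact (commute_lift E B hab hab hab.symm hab (hy a b t hab) (hy a b u hab)).eq
  · rw [← hindep a b c hab hbc hac, ← commutatorElement_def]
    exact elem_congr E.central (by rw [hy a b t hab, E.lift]) (by rw [hy b c u hbc, E.lift])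
  · exact commute_lift E B hab hcd hbc had (hy a b t hab) (hy c d u hcd)

end Split

/-- Homomorphisms lift uniquely into central extensions. -/
theorem exists_lift [Finite K] (B : Big ι K) {G₁ E : Type*} [Group G₁] [Group E] (π₁ : E →* G₁)
    (hπ : Function.Surjective π₁) (hc : π₁.ker ≤ Subgroup.center E) (σ : St ι K →* G₁) :
    ∃ τ : St ι K →* E, π₁.comp τ = σ := by
  set Γ : Subgroup (St ι K × E) := (σ.comp (MonoidHom.fst _ _)).eqLocus (π₁.comp (MonoidHom.snd _ _))
  set p : Γ →* St ι K := (MonoidHom.fst _ _).comp Γ.subtype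
  have hp : Function.Surjective p := fun g => by
    obtain ⟨e, he⟩ := hπ (σ g)
    exact ⟨⟨(g, e), he.symm⟩, rfl⟩
  have hpc : p.ker ≤ Subgroup.center Γ := by
    rintro ⟨⟨g, e⟩, hge⟩ hk
    obtain rfl : g = 1 := hk
    have he : σ 1 = π₁ e := hge
    have hcen := hc (show π₁ e = 1 by rw [← he, map_one])
    rw [Subgroup.mem_center_iff]
    rintro ⟨⟨a, b⟩, hab⟩
    exact Subtype.ext (Prod.ext (by simp) (Subgroup.mem_center_iff.1 hcen b))
  choose ξ hξ using fun (a b : ι) (t : K) => hp (xe a b t)
  obtain ⟨y, hy, hyl⟩ := exists_rel (⟨hp, hpc, hξ⟩ : Ext p ξ) B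
  obtain ⟨ψ, hψ⟩ := exists_hom hy
  have hid : p.comp ψ = MonoidHom.id _ := hom_ext fun a b t hab => by
    rw [MonoidHom.comp_apply, hψ a b t hab, hyl a b t hab, MonoidHom.id_apply]
  refine ⟨(MonoidHom.snd _ _).comp (Γ.subtype.comp ψ), MonoidHom.ext fun g => ?_⟩
  show π₁ (ψ g).1.2 = σ g
  conv_rhs => rw [← MonoidHom.id_apply (St ι K) g, ← hid]
  exact ((ψ g).2 : σ (ψ g).1.1 = π₁ (ψ g).1.2).symm

end Cfsg.Agent.StLinear
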