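/-
Monomial elements of the group presented by the relations of elementary matrices.
-/
import Cfsg.Agent.Lib.StLinear.Uni
import Cfsg.Agent.Lib.StLinear.RankOne

set_option autoImplicit false
set_option linter.unusedSectionVars false
set_option maxHeartbeats 1000000

namespace Cfsg.Agent.StLinear

variable {ι K : Type*} [Field K] [DecidableEq ι] [Fintype ι]

/-- A monomial matrix. -/
def mono (μ : ι → K) (π : ι → ι) : Matrix ι ι K := Matrix.of fun i j => if i = π j then μ j else 0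

theorem mono_id (μ : ι → K) : mono μ id = Matrix.diagonal μ := by
  ext i j
  by_cases h : i = j
  · subst h; simp [mono]
  · simp [mono, h]

theorem mono_mul (μ ν : ι → K) (π ρ : ι → ι) :
    mono μ π * mono ν ρ = mono (fun j => μ (ρ j) * ν j) (π ∘ ρ) := by
  ext i j
  rw [Matrix.mul_apply, Finset.sum_eq_single (ρ j)]
  · simp [mono]
  · intro k _ hk; simp [mono, hk]
  · simp

theorem mono_transvection {μ : ι → K} (hμ : ∀ i, μ i ≠ 0) {π : ι → ι} (hπ : Function.Injective π) (k l : ι) (t : K) :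
    mono μ π * Matrix.transvection k l t = Matrix.transvection (π k) (π l) (μ k / μ l * t) * mono μ π := by
  rw [Matrix.transvection, Matrix.transvection, mul_add, add_mul, mul_one, one_mul]
  congr 1
  ext i j
  rw [Matrix.mul_apply, Matrix.mul_apply, Finset.sum_eq_single k, Finset.sum_eq_single (π l)]
  · by_cases hj : l = j
    · subst hj
      by_cases hi : i = π k
      · subst hi
        simp [mono, Matrix.single_apply]
        field_simp [hμ l]
      · simp [mono, Matrix.single_apply, hi, Ne.symm hi]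
    · have : π l ≠ π j := hπ.ne hj
      simp [mono, Matrix.single_apply, hj, this]
  · intro m _ hm; simp [Matrix.single_apply, Ne.symm hm]
  · simp
  · intro m _ hm; simp [Matrix.single_apply, Ne.symm hm]
  · simp

/-- The scalars of a Weyl element. -/
def wμ (a b : ι) (c : K) : ι → K := fun m => if m = a then -c⁻¹ else if m = b then c else 1

theorem wμ_ne (a b : ι) {c : K} (hc : c ≠ 0) (m : ι) : wμ a b c m ≠ 0 := by
  unfold wμ; split_ifs <;> simp [hc]

theorem transvection_w {a b : ι} (hab : a ≠ b) {c : K} (hc : c ≠ 0) :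
    Matrix.transvection a b c * Matrix.transvection b a (-c⁻¹) * Matrix.transvection a b c =
      mono (wμ a b c) (Equiv.swap a b) := by
  have h1 : ∀ i j, Matrix.transvection a b c i j = (if i = j then 1 else 0) + (if a = i ∧ b = j then c else 0) :=
    fun i j => by simp [Matrix.transvection, Matrix.add_apply, Matrix.one_apply, Matrix.single_apply]
  have h2 : ∀ i j, (Matrix.transvection a b c * Matrix.transvection b a (-c⁻¹)) i j =
      if j = a then Matrix.transvection a b c i a + -c⁻¹ * Matrix.transvection a b c i b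
      else Matrix.transvection a b c i j := by
    intro i j
    by_cases hj : j = a
    · rw [if_pos hj, hj, Matrix.mul_transvection_apply_same]
    · rw [if_neg hj, Matrix.mul_transvection_apply_of_ne _ _ _ _ hj]
  ext i j
  by_cases hjb : j = b
  · subst hjb
    rw [Matrix.mul_transvection_apply_same, h2, h2, if_neg hab.symm, if_pos rfl, h1, h1]
    by_cases hia : i = a
    · subst hia; simp [mono, wμ, hab, hab.symm, hc]
    · by_cases hib : i = j
      · subst hib; simp [mono, wμ, hab, hab.symm, hc, hia]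
      · simp [mono, wμ, hia, hib, Ne.symm hia]
  · rw [Matrix.mul_transvection_apply_of_ne _ _ _ _ hjb, h2]
    by_cases hja : j = a
    · subst hja
      rw [if_pos rfl, h1, h1]
      by_cases hia : i = j
      · subst hia; simp [mono, wμ, hab, hab.symm, hc]
      · by_cases hib : i = b
        · subst hib; simp [mono, wμ, hab, hab.symm, hia]
        · simp [mono, wμ, hia, hib, Ne.symm hia]
    · rw [if_neg hja, h1]
      by_cases hij : i = j
      · subst hij; simp [mono, wμ, hja, hjb, Ne.symm hjb, Equiv.swap_apply_of_ne_of_ne]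
      · simp [mono, wμ, hja, hjb, hij, Ne.symm hjb, Equiv.swap_apply_of_ne_of_ne]

/-- The Weyl element. -/
def wE (a b : ι) (c : K) : St ι K := nT (xe a b) (xe b a) c

/-- The torus element. -/
def hE (a b : ι) (c : K) : St ι K := hT (xe a b) (xe b a) c

theorem toSL_wE {a b : ι} (hab : a ≠ b) {c : K} (hc : c ≠ 0) :
    (toSL ι K (wE a b c)).1 = mono (wμ a b c) (Equiv.swap a b) := by
  rw [wE, nT, map_mul, map_mul, toSL_xe a b c hab, toSL_xe b a _ hab.symm, ← transvection_w hab hc]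
  rfl

/-- The diagonal of a torus element. -/
def hd (a b : ι) (c : K) : ι → K := fun m => if m = a then c else if m = b then c⁻¹ else 1

theorem toSL_hE {a b : ι} (hab : a ≠ b) {c : K} (hc : c ≠ 0) :
    (toSL ι K (hE a b c)).1 = Matrix.diagonal (hd a b c) := by
  rw [hE, hT, map_mul, Matrix.SpecialLinearGroup.coe_mul]
  show (toSL ι K (wE a b c)).1 * (toSL ι K (wE a b (-1))).1 = _
  rw [toSL_wE hab hc, toSL_wE hab (neg_ne_zero.2 one_ne_zero), mono_mul, ← mono_id]
  congr 1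
  · funext m
    by_cases hma : m = a
    · subst hma; simp [wμ, hd, hab.symm]
    by_cases hmb : m = b
    · subst hmb; simp [wμ, hd, hab.symm]
    · simp [wμ, hd, hma, hmb, Equiv.swap_apply_of_ne_of_ne]
  · funext m; simp

variable (h3 : 3 ≤ Fintype.card ι)
include h3

theorem conj_mono {g : St ι K} {μ : ι → K} (hμ : ∀ i, μ i ≠ 0) {π : ι → ι} (hπ : Function.Injective π)
    (hg : (toSL ι K g).1 = mono μ π) {k l : ι} (hkl : k ≠ l) (t : K) :
    g * xe k l t * g⁻¹ = xe (π k) (π l) (μ k / μ l * t) := by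
  refine conj_xe h3 hπ (f := fun k l => μ k / μ l) (fun k l hkl t => ?_) hkl t
  rw [map_mul, map_mul, map_inv, mul_inv_eq_iff_eq_mul, toSL_xe k l t hkl, toSL_xe _ _ _ (hπ.ne hkl)]
  apply Subtype.ext
  simp only [Matrix.SpecialLinearGroup.coe_mul, hg]
  exact mono_transvection hμ hπ k l t

theorem conj_diag {g : St ι K} {d : ι → K} (hd : ∀ i, d i ≠ 0) (hg : (toSL ι K g).1 = Matrix.diagonal d)
    {k l : ι} (hkl : k ≠ l) (t : K) : g * xe k l t * g⁻¹ = xe k l (d k / d l * t) :=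
  conj_mono h3 hd Function.injective_id (by rw [hg, mono_id]) hkl t

omit h3 in
theorem hd_ne (a b : ι) {c : K} (hc : c ≠ 0) (m : ι) : hd a b c m ≠ 0 := by
  unfold hd; split_ifs <;> simp [hc]

theorem hE_conj {a b : ι} (hab : a ≠ b) {c : K} (hc : c ≠ 0) {k l : ι} (hkl : k ≠ l) (t : K) :
    hE a b c * xe k l t * (hE a b c)⁻¹ = xe k l (hd a b c k / hd a b c l * t) :=
  conj_diag h3 (hd_ne a b hc) (toSL_hE hab hc) hkl t

theorem rankOne {a b : ι} (hab : a ≠ b) : RankOne (xe (K := K) a b) (xe b a) := by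
  have hS := stRel_xe (ι := ι) (K := K)
  refine ⟨hS.add a b trivial trivial hab, hS.add b a trivial trivial hab.symm, fun t u ht => ?_, fun t u ht => ?_,
    fun c d hc => ?_, fun t u ht hu => toSL_ker_central h3 ?_⟩
  · have := hE_conj h3 hab ht hab u
    rw [hE] at this
    rw [this]
    congr 1
    rw [show hd a b t a = t by simp [hd], show hd a b t b = t⁻¹ by simp [hd, hab.symm]]
    field_simp
  · have := hE_conj h3 hab ht hab.symm u
    rw [hE] at this
    rw [this]
    congr 1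
    rw [show hd a b t a = t by simp [hd], show hd a b t b = t⁻¹ by simp [hd, hab.symm]]
    field_simp
  · refine mul_inv_eq_iff_eq_mul.1 ((conj_mono h3 (wμ_ne a b hc) (Equiv.injective _) (toSL_wE hab hc) hab d).trans ?_)
    rw [Equiv.swap_apply_left, Equiv.swap_apply_right]
    congr 1
    simp [wμ, hab.symm]; field_simp
  · rw [MonoidHom.mem_ker, map_mul, map_mul, map_inv, mul_inv_eq_one]
    apply Subtype.ext
    show (toSL ι K (hE a b t)).1 * (toSL ι K (hE a b u)).1 = (toSL ι K (hE a b (t * u))).1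
    rw [toSL_hE hab ht, toSL_hE hab hu, toSL_hE hab (mul_ne_zero ht hu), Matrix.diagonal_mul_diagonal]
    congr 1
    funext m
    simp only [hd]
    split_ifs <;> simp [mul_comm]

variable [Finite K]

theorem hE_mul {a b : ι} (hab : a ≠ b) {t u : K} (ht : t ≠ 0) (hu : u ≠ 0) :
    hE a b t * hE a b u = hE a b (t * u) := hI_mul (rankOne h3 hab) ht hu

theorem hE_one {a b : ι} (hab : a ≠ b) : hE a b (1 : K) = 1 := hI_one (rankOne h3 hab)

theorem wE_neg {a b : ι} (hab : a ≠ b) (t : K) : wE a b (-t) = (wE a b t)⁻¹ := nT_neg (rankOne h3 hab) t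

/-- Conjugation of Weyl elements. -/
theorem wE_conj {g : St ι K} {μ : ι → K} (hμ : ∀ i, μ i ≠ 0) {π : ι → ι} (hπ : Function.Injective π)
    (hg : (toSL ι K g).1 = mono μ π) {k l : ι} (hkl : k ≠ l) (v : K) :
    g * wE k l v * g⁻¹ = wE (π k) (π l) (μ k / μ l * v) := by
  rw [wE, wE, nT, nT, show ∀ A B : St ι K, g * (A * B * A) * g⁻¹ = g * A * g⁻¹ * (g * B * g⁻¹) * (g * A * g⁻¹) by
    intros; group, conj_mono h3 hμ hπ hg hkl, conj_mono h3 hμ hπ hg hkl.symm, mul_inv, inv_div, mul_neg]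

theorem wE_swap {a b : ι} (hab : a ≠ b) {c : K} (hc : c ≠ 0) : wE a b c = wE b a (-c⁻¹) := by
  have := wE_conj h3 (wμ_ne a b hc) (Equiv.injective _) (toSL_wE hab hc) hab c
  rw [mul_inv_cancel_right, Equiv.swap_apply_left, Equiv.swap_apply_right] at this
  rw [this]
  congr 1
  simp [wμ, hab.symm]; field_simp

theorem wE_eq {a b : ι} (hab : a ≠ b) (c : K) : wE a b c = hE a b c * wE a b 1 := by
  rw [hE, hT]
  show _ = wE a b c * wE a b (-1) * wE a b 1
  rw [wE_neg h3 hab, inv_mul_cancel_right]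

theorem w_one_h {a b : ι} (hab : a ≠ b) {t : K} (ht : t ≠ 0) :
    wE a b (1 : K) * hE a b t = hE a b t⁻¹ * wE a b 1 := by
  refine mul_inv_eq_iff_eq_mul.1 ?_
  have hw := fun v => wE_conj h3 (wμ_ne a b (one_ne_zero (α := K))) (Equiv.injective _)
    (toSL_wE hab one_ne_zero) hab v
  have key : ∀ v : K, v ≠ 0 → wE a b (1 : K) * wE a b v * (wE a b 1)⁻¹ = wE a b v⁻¹ := fun v hv => by
    rw [hw, Equiv.swap_apply_left, Equiv.swap_apply_right, wE_swap h3 hab (inv_ne_zero hv)]
    congr 1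
    simp [wμ, hab.symm]
  show wE a b (1 : K) * (wE a b t * wE a b (-1)) * (wE a b 1)⁻¹ = wE a b t⁻¹ * wE a b (-1)
  rw [show ∀ g A B : St ι K, g * (A * B) * g⁻¹ = g * A * g⁻¹ * (g * B * g⁻¹) by intros; group, key t ht,
    key _ (neg_ne_zero.2 one_ne_zero), inv_neg, inv_one]

/-- Three indices. -/
theorem hE_three {i j k : ι} (hij : i ≠ j) (hjk : j ≠ k) (hik : i ≠ k) {t : K} (ht : t ≠ 0) :
    hE i k t = hE i j t * hE j k t := by
  set g := wE j k (1 : K)
  have hw := fun v => wE_conj h3 (wμ_ne j k (one_ne_zero (α := K))) (Equiv.injective _)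
    (toSL_wE hjk one_ne_zero) hij v
  have e1 : g * hE i j t * g⁻¹ = hE i k t := by
    show g * (wE i j t * wE i j (-1)) * g⁻¹ = _
    rw [show ∀ A B : St ι K, g * (A * B) * g⁻¹ = g * A * g⁻¹ * (g * B * g⁻¹) by intros; group, hw, hw,
      Equiv.swap_apply_of_ne_of_ne hij hik, Equiv.swap_apply_left]
    have e : ∀ v : K, wμ j k (1 : K) i / wμ j k 1 j * v = -v := fun v => by simp [wμ, hij, hik]
    rw [e, e, neg_neg, wE_eq h3 hik (-t), wE_eq h3 hik 1, hE_one h3 hik, one_mul]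
    show _ = hE i k t
    have h1 : hE i k (-t) = hE i k t * hE i k (-1) := by
      rw [hE_mul h3 hik ht (neg_ne_zero.2 one_ne_zero), mul_neg_one]
    have h2 : hE i k (-1) * wE i k (1 : K) = (wE i k 1)⁻¹ := by
      rw [← wE_eq h3 hik, wE_neg h3 hik]
    rw [h1, mul_assoc (hE i k t), h2, inv_mul_cancel_right]
  have e2 : (hE i j t)⁻¹ * g * hE i j t = wE j k t := by
    have hinv : (toSL ι K (hE i j t⁻¹)).1 = mono (hd i j t⁻¹) id := by
      rw [toSL_hE hij (inv_ne_zero ht), mono_id]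
    have hh : (hE i j t)⁻¹ = hE i j t⁻¹ :=
      inv_eq_of_mul_eq_one_right (by rw [hE_mul h3 hij ht (inv_ne_zero ht), mul_inv_cancel₀ ht, hE_one h3 hij])
    have := wE_conj h3 (hd_ne i j (inv_ne_zero ht)) Function.injective_id hinv hjk (1 : K)
    rw [← hh, inv_inv] at this
    rw [this]
    congr 1
    simp [hd, hij.symm, hik.symm, hjk.symm]
  rw [← e1]
  calc g * hE i j t * g⁻¹ = hE i j t * ((hE i j t)⁻¹ * g * hE i j t) * g⁻¹ := by group
    _ = _ := by
      rw [e2, mul_assoc]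
      congr 1
      show _ = wE j k t * wE j k (-1)
      rw [wE_neg h3 hjk]

/-- The elements of a pair of root groups. -/
theorem pair_form {a b : ι} (hab : a ≠ b) {g : St ι K}
    (hg : g ∈ Subgroup.closure ({g | ∃ t, g = xe a b t} ∪ {g | ∃ t, g = xe b a t} : Set (St ι K))) :
    (∃ u t, t ≠ 0 ∧ g = xe a b u * hE a b t) ∨ (∃ u c v, c ≠ 0 ∧ g = xe a b u * wE a b c * xe a b v) := by
  have R := rankOne (K := K) h3 hab
  set X := xe (K := K) a b
  set Y := xe (K := K) b a
  set H := fun t : K => hE a b t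
  set N := fun t : K => wE a b t
  have hN : ∀ c, N c = H c * N 1 := wE_eq h3 hab
  have hHm : ∀ t u : K, t ≠ 0 → u ≠ 0 → H t * H u = H (t * u) := fun t u => hE_mul h3 hab
  have hN1 : ∀ t : K, t ≠ 0 → N 1 * H t = H t⁻¹ * N 1 := fun t => w_one_h h3 hab
  have hNN : N 1 * N 1 = H (-1) := by
    have hinv : N (-1) = (N 1)⁻¹ := wE_neg h3 hab 1
    have e : H (-1) * N 1 = (N 1)⁻¹ := by rw [← hN, hinv]
    have e2 : (H (-1) * N 1) * N 1 = 1 := by rw [e, inv_mul_cancel]
    have e3 : H (-1) * H (-1) = 1 := by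
      rw [hHm _ _ (neg_ne_zero.2 one_ne_zero) (neg_ne_zero.2 one_ne_zero), neg_mul_neg, one_mul]
      exact hE_one h3 hab
    rw [mul_assoc] at e2
    exact (eq_inv_of_mul_eq_one_right e2).trans (inv_eq_of_mul_eq_one_right e3)
  have hHX : ∀ t u : K, t ≠ 0 → H t * X u = X (t ^ 2 * u) * H t := fun t u ht =>
    mul_inv_eq_iff_eq_mul.1 (R.hX t u ht)
  have hXH : ∀ t u : K, t ≠ 0 → X u * H t = H t * X ((t ^ 2)⁻¹ * u) := fun t u ht => by
    rw [hHX t _ ht, mul_inv_cancel_left₀ (pow_ne_zero 2 ht)]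
  have hHN : ∀ t c : K, t ≠ 0 → c ≠ 0 → H t * N c = N (t * c) := fun t c ht hc => by
    rw [hN c, hN (t * c), ← mul_assoc, hHm t c ht hc]
  have hNH : ∀ c t : K, c ≠ 0 → t ≠ 0 → N c * H t = N (c / t) := fun c t hc ht => by
    rw [hN c, hN (c / t), mul_assoc, hN1 t ht, ← mul_assoc, hHm c _ hc (inv_ne_zero ht), div_eq_mul_inv]
  have hNNc : ∀ c e : K, c ≠ 0 → e ≠ 0 → N c * N e = H (-(c / e)) := fun c e hc he => by
    rw [hN e, ← mul_assoc, hNH c e hc he, hN (c / e), mul_assoc, hNN,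
      hHm _ _ (div_ne_zero hc he) (neg_ne_zero.2 one_ne_zero), mul_neg_one]
  have hY : ∀ s : K, s ≠ 0 → Y s = X s⁻¹ * N (-s⁻¹) * X s⁻¹ := fun s hs => by
    simp only [N]
    show Y s = X s⁻¹ * nT X Y (-s⁻¹) * X s⁻¹
    rw [nT, inv_neg, inv_inv, neg_neg, ← X_inv R]; group
  let S : St ι K → Prop := fun g =>
    (∃ u t, t ≠ 0 ∧ g = X u * H t) ∨ (∃ u c v, c ≠ 0 ∧ g = X u * N c * X v)
  have hX0 : X (0 : K) = 1 := (stRel_xe (ι := ι) (K := K)).zero trivial trivial hab
  have stepX : ∀ g, S g → ∀ s, S (g * X s) := by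
    rintro g (⟨u, t, ht, rfl⟩ | ⟨u, c, v, hc, rfl⟩) s
    · exact Or.inl ⟨u + t ^ 2 * s, t, ht, by rw [mul_assoc, hHX t s ht, ← mul_assoc, R.addX]⟩
    · exact Or.inr ⟨u, c, v + s, hc, by rw [mul_assoc, R.addX]⟩
  have stepY : ∀ g, S g → ∀ s, S (g * Y s) := by
    intro g hg s
    by_cases hs : s = 0
    · subst hs
      rwa [show Y (0 : K) = 1 from (stRel_xe (ι := ι) (K := K)).zero trivial trivial hab.symm, mul_one]
    rw [hY s hs]
    have hc0 : -s⁻¹ ≠ 0 := neg_ne_zero.2 (inv_ne_zero hs)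
    rcases hg with ⟨u, t, ht, rfl⟩ | ⟨u, c, v, hc, rfl⟩
    · refine Or.inr ⟨u + t ^ 2 * s⁻¹, t * -s⁻¹, s⁻¹, mul_ne_zero ht hc0, ?_⟩
      calc X u * H t * (X s⁻¹ * N (-s⁻¹) * X s⁻¹) = X u * (H t * X s⁻¹) * N (-s⁻¹) * X s⁻¹ := by group
        _ = X u * X (t ^ 2 * s⁻¹) * (H t * N (-s⁻¹)) * X s⁻¹ := by rw [hHX t _ ht]; group
        _ = _ := by rw [R.addX, hHN _ _ ht hc0]
    · set b' := v + s⁻¹
      have e0 : X u * N c * X v * (X s⁻¹ * N (-s⁻¹) * X s⁻¹) = X u * (N c * X b') * N (-s⁻¹) * X s⁻¹ := by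
        simp only [b', ← R.addX]; group
      rw [e0]
      by_cases hb : b' = 0
      · rw [hb, hX0, mul_one, mul_assoc (X u), hNNc c _ hc hc0]
        exact stepX _ (Or.inl ⟨u, _, neg_ne_zero.2 (div_ne_zero hc hc0), rfl⟩) _
      · set β := -(b' / c ^ 2)
        have hβ : β ≠ 0 := neg_ne_zero.2 (div_ne_zero hb (pow_ne_zero 2 hc))
        obtain ⟨τ, hτd⟩ : ∃ τ : K, τ = -(c / -s⁻¹) := ⟨_, rfl⟩
        have hτ : τ ≠ 0 := hτd ▸ neg_ne_zero.2 (div_ne_zero hc hc0)
        refine Or.inr ⟨u + β⁻¹, -β⁻¹ / τ, (τ ^ 2)⁻¹ * β⁻¹ + s⁻¹,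
          div_ne_zero (neg_ne_zero.2 (inv_ne_zero hβ)) hτ, ?_⟩
        calc X u * (N c * X b') * N (-s⁻¹) * X s⁻¹
            = X u * Y β * (N c * N (-s⁻¹)) * X s⁻¹ := by
              rw [show N c * X b' = Y β * N c from R.nX c b' hc]; group
          _ = X u * X β⁻¹ * N (-β⁻¹) * (X β⁻¹ * H τ) * X s⁻¹ := by
              rw [hNNc c _ hc hc0, ← hτd, hY β hβ]; group
          _ = X u * X β⁻¹ * (N (-β⁻¹) * H τ) * (X ((τ ^ 2)⁻¹ * β⁻¹) * X s⁻¹) := by
              rw [hXH τ _ hτ]; group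
          _ = _ := by rw [R.addX, R.addX, hNH _ _ (neg_ne_zero.2 (inv_ne_zero hβ)) hτ]
  show S g
  induction hg using Subgroup.closure_induction_right with
  | one => exact Or.inl ⟨0, 1, one_ne_zero, by rw [hX0, show H 1 = 1 from hE_one h3 hab, one_mul]⟩
  | mul_right z _ y hy ih =>
    rcases hy with ⟨s, rfl⟩ | ⟨s, rfl⟩
    exacts [stepX z ih s, stepY z ih s]
  | mul_inv_cancel z _ y hy ih =>
    rcases hy with ⟨s, rfl⟩ | ⟨s, rfl⟩
    · rw [show (xe a b s)⁻¹ = X (-s) from X_inv R s]; exact stepX z ih _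
    · rw [show (xe b a s)⁻¹ = Y (-s) from Y_inv R s]; exact stepY z ih _

end Cfsg.Agent.StLinear
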