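/-
Over a finite field the group presented by the relations of elementary matrices is the special linear group.
-/
import Cfsg.Agent.Lib.StLinear.Torus

set_option autoImplicit false
set_option linter.unusedSectionVars false
set_option maxHeartbeats 1000000

namespace Cfsg.Agent.StLinear

open Cfsg.Agent.CTLocal Cfsg.Agent.CTLocal.StA Subgroup

variable {ι K : Type*} [Field K] [DecidableEq ι] [Fintype ι] [Finite K]

/-- The kernel lies in the subgroup of a smaller set of indices. -/
theorem ker_le_mid (h3 : 3 ≤ Fintype.card ι) (o : ι) :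
    (toSL ι K).ker ≤ closure (midG (xe (K := K)) o) := by
  have h := stRel_xe (ι := ι) (K := K)
  have hθ : ∀ a b (t : K), ∀ hab : a ≠ b, toSL ι K (xe a b t) = Matrix.SpecialLinearGroup.transvection hab t :=
    fun a b t hab => toSL_xe a b t hab
  obtain ⟨b0, hb0, -⟩ := exists_third h3 o o
  intro c hc
  set M : Subgroup (St ι K) := closure (midG (xe (K := K)) o ∪ colG (xe (K := K)) o ∪ {g | ∃ t, t ≠ 0 ∧ g = hE b0 o t})
  have hmidM : closure (midG (xe (K := K)) o) ≤ M := closure_mono fun g hg => Or.inl (Or.inl hg)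
  have hcolM : closure (colG (xe (K := K)) o) ≤ M := closure_mono fun g hg => Or.inl (Or.inr hg)
  have hmidh : ∀ a b (t : K), a ≠ o → b ≠ o → a ≠ b → hE a b t ∈ closure (midG (xe (K := K)) o) := by
    intro a b t ha hb hab
    have hx : ∀ s : K, xe a b s ∈ closure (midG (xe (K := K)) o) := fun s => subset_closure ⟨a, b, s, ha, hb, hab, rfl⟩
    have hy : ∀ s : K, xe b a s ∈ closure (midG (xe (K := K)) o) := fun s =>
      subset_closure ⟨b, a, s, hb, ha, hab.symm, rfl⟩
    exact mul_mem (mul_mem (mul_mem (hx _) (hy _)) (hx _)) (mul_mem (mul_mem (hx _) (hy _)) (hx _))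
  have hT : ∀ j, j ≠ o → ∀ t : K, t ≠ 0 → hE j o t ∈ M := by
    intro j hjo t ht
    by_cases hj : j = b0
    · subst hj; exact subset_closure (Or.inr ⟨t, ht, rfl⟩)
    · rw [hE_three h3 hj hb0 hjo ht]
      exact mul_mem (hmidM (hmidh j b0 t hjo hb0 hj)) (subset_closure (Or.inr ⟨t, ht, rfl⟩))
  have hinvE : ∀ j, j ≠ o → ∀ t : K, t ≠ 0 → (hE j o t)⁻¹ = hE j o t⁻¹ := fun j hjo t ht =>
    inv_eq_of_mul_eq_one_right (by rw [hE_mul h3 hjo ht (inv_ne_zero ht), mul_inv_cancel₀ ht, hE_one h3 hjo])
  have hN : ∀ j, j ≠ o → ∀ t : K, t ≠ 0 →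
      hE j o t ∈ normalizer ((closure (rowG (xe (K := K)) o) : Subgroup (St ι K)) : Set (St ι K)) := by
    intro j hjo t ht
    have step : ∀ t : K, t ≠ 0 → closure (rowG (xe (K := K)) o) ≤
        (closure (rowG (xe (K := K)) o)).comap (MulAut.conj (hE j o t)).toMonoidHom := by
      intro t ht
      rw [closure_le]
      rintro _ ⟨l, v, hl, rfl⟩
      show hE j o t * xe o l v * (hE j o t)⁻¹ ∈ closure (rowG (xe (K := K)) o)
      rw [hE_conj h3 hjo ht hl.symm]
      exact subset_closure ⟨l, _, hl, rfl⟩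
    rw [mem_normalizer_iff]
    refine fun y => ⟨fun hy => step t ht hy, fun hy => ?_⟩
    have := step t⁻¹ (inv_ne_zero ht) hy
    rw [mem_comap, MulEquiv.coe_toMonoidHom, MulAut.conj_apply, ← hinvE j hjo t ht] at this
    simpa [mul_assoc] using this
  have hline : M ≤ (lineSub o).comap (toSL ι K) := by
    rw [closure_le]
    rintro g ((⟨a, b, t, ha, hb, hab, rfl⟩ | ⟨a, t, ha, rfl⟩) | ⟨t, ht, rfl⟩) b' hb'
    · rw [coe_θ (toSL ι K) hθ hab, Matrix.transvection, Matrix.add_apply, Matrix.one_apply_ne hb'.symm, zero_add,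
        Matrix.single_apply, if_neg (fun e => ha e.1)]
    · rw [coe_θ (toSL ι K) hθ ha, Matrix.transvection, Matrix.add_apply, Matrix.one_apply_ne hb'.symm, zero_add,
        Matrix.single_apply, if_neg (fun e => ha e.1)]
    · rw [toSL_hE hb0 ht, Matrix.diagonal_apply_ne _ hb'.symm]
  set R := closure (rowG (xe (K := K)) o)
  set Q := closure (colG (xe (K := K)) o)
  let S : St ι K → Prop := fun g => ∃ p ∈ M, ∃ r ∈ R, ∃ q ∈ Q, g = p * r * q
  have hmidS : ∀ g, S g → ∀ m ∈ closure (midG (xe (K := K)) o), S (g * m) := by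
    rintro g ⟨p, hp, r, hr, q, hq, rfl⟩ m hm
    refine ⟨p * m, mul_mem hp (hmidM hm), m⁻¹ * r * m, ?_, m⁻¹ * q * m, ?_, by group⟩
    · exact (mem_normalizer_iff''.1 (mid_norm_row h o hm) r).1 hr
    · exact (mem_normalizer_iff''.1 (mid_norm_col h o hm) q).1 hq
  have hcolS : ∀ g, S g → ∀ q' ∈ Q, S (g * q') := by
    rintro g ⟨p, hp, r, hr, q, hq, rfl⟩ q' hq'
    exact ⟨p, hp, r, hr, q * q', mul_mem hq hq', by group⟩
  have hsupC : ∀ y ∈ closure (midG (xe (K := K)) o) ⊔ Q, ∃ m ∈ closure (midG (xe (K := K)) o), ∃ q ∈ Q, m * q = y := by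
    intro y hy
    rw [← SetLike.mem_coe, coe_mul_of_left_le_normalizer_right _ _ (mid_norm_col h o)] at hy
    exact hy
  have hsupR : ∀ y ∈ closure (midG (xe (K := K)) o) ⊔ R, ∃ m ∈ closure (midG (xe (K := K)) o), ∃ r ∈ R, m * r = y := by
    intro y hy
    rw [← SetLike.mem_coe, coe_mul_of_left_le_normalizer_right _ _ (mid_norm_row h o)] at hy
    exact hy
  have hrowS : ∀ g, S g → ∀ j, j ≠ o → ∀ b, S (g * xe o j b) := by
    rintro g ⟨p, hp, r, hr, q, hq, rfl⟩ j hjo b
    -- split the column part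
    obtain ⟨s, q', hq', rfl⟩ : ∃ s, ∃ q' ∈ closure {g : St ι K | ∃ a t, a ≠ o ∧ a ≠ j ∧ g = xe a o t}, q = xe j o s * q' := by
      let Q' := closure {g : St ι K | ∃ a t, a ≠ o ∧ a ≠ j ∧ g = xe a o t}
      induction hq using closure_induction_left with
      | one => exact ⟨0, 1, one_mem _, by rw [h.zero trivial trivial hjo, one_mul]⟩
      | mul_left y hy z _ ih =>
        obtain ⟨s, q', hq', rfl⟩ := ih
        obtain ⟨a, t, ha, rfl⟩ := hy
        by_cases haj : a = j
        · subst haj
          exact ⟨t + s, q', hq', by rw [← mul_assoc, h.add a o trivial trivial ha]⟩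
        · refine ⟨s, xe a o t * q', mul_mem (subset_closure ⟨a, t, ha, haj, rfl⟩) hq', ?_⟩
          rw [← mul_assoc, ← mul_assoc, (h.comm0 a o j o trivial trivial trivial trivial ha hjo hjo.symm ha t s).eq]
      | inv_mul_cancel y hy z _ ih =>
        obtain ⟨s, q', hq', rfl⟩ := ih
        obtain ⟨a, t, ha, rfl⟩ := hy
        rw [h.inv trivial trivial ha]
        by_cases haj : a = j
        · subst haj
          exact ⟨-t + s, q', hq', by rw [← mul_assoc, h.add a o trivial trivial ha]⟩
        · refine ⟨s, xe a o (-t) * q', mul_mem (subset_closure ⟨a, -t, ha, haj, rfl⟩) hq', ?_⟩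
          rw [← mul_assoc, ← mul_assoc, (h.comm0 a o j o trivial trivial trivial trivial ha hjo hjo.symm ha (-t) s).eq]
    obtain ⟨a, r', hr', rfl⟩ : ∃ a, ∃ r' ∈ closure {g : St ι K | ∃ l t, l ≠ o ∧ l ≠ j ∧ g = xe o l t}, r = r' * xe o j a := by
      induction hr using closure_induction_right with
      | one => exact ⟨0, 1, one_mem _, by rw [h.zero trivial trivial hjo.symm, one_mul]⟩
      | mul_right z _ y hy ih =>
        obtain ⟨a, r', hr', rfl⟩ := ih
        obtain ⟨l, t, hl, rfl⟩ := hy
        by_cases hlj : l = j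
        · subst hlj
          exact ⟨a + t, r', hr', by rw [mul_assoc, h.add o l trivial trivial hjo.symm]⟩
        · refine ⟨a, r' * xe o l t, mul_mem hr' (subset_closure ⟨l, t, hl, hlj, rfl⟩), ?_⟩
          rw [mul_assoc, mul_assoc, (h.comm0 o j o l trivial trivial trivial trivial hjo.symm hl.symm hjo hl.symm a t).eq]
      | mul_inv_cancel z _ y hy ih =>
        obtain ⟨a, r', hr', rfl⟩ := ih
        obtain ⟨l, t, hl, rfl⟩ := hy
        rw [h.inv trivial trivial hl.symm]
        by_cases hlj : l = j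
        · subst hlj
          exact ⟨a + -t, r', hr', by rw [mul_assoc, h.add o l trivial trivial hjo.symm]⟩
        · refine ⟨a, r' * xe o l (-t), mul_mem hr' (subset_closure ⟨l, -t, hl, hlj, rfl⟩), ?_⟩
          rw [mul_assoc, mul_assoc, (h.comm0 o j o l trivial trivial trivial trivial hjo.symm hl.symm hjo hl.symm a (-t)).eq]
    -- move the new element left
    obtain ⟨m, hm, q'', hq'', hmq⟩ := hsupC ((xe o j b)⁻¹ * q' * xe o j b) (by
      have hle : closure {g : St ι K | ∃ a t, a ≠ o ∧ a ≠ j ∧ g = xe a o t} ≤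
          (closure (midG (xe (K := K)) o) ⊔ Q).comap (MulAut.conj (xe o j b)⁻¹).toMonoidHom := by
        rw [closure_le]
        rintro _ ⟨i, t, hio, hij, rfl⟩
        simp only [SetLike.mem_coe, Subgroup.mem_comap, MulEquiv.coe_toMonoidHom, MulAut.conj_apply]
        rw [h.inv trivial trivial hjo.symm, h.conj2 trivial trivial trivial hjo.symm hij.symm hio.symm]
        exact mul_mem (mem_sup_left (subset_closure ⟨i, j, _, hio, hjo, hij, rfl⟩))
          (mem_sup_right (subset_closure ⟨i, t, hio, rfl⟩))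
      simpa using hle hq')
    have hgp : xe o j a * xe j o s * xe o j b ∈
        closure ({g | ∃ t, g = xe j o t} ∪ {g | ∃ t, g = xe o j t} : Set (St ι K)) :=
      mul_mem (mul_mem (subset_closure (Or.inr ⟨a, rfl⟩)) (subset_closure (Or.inl ⟨s, rfl⟩))) (subset_closure (Or.inr ⟨b, rfl⟩))
    obtain ⟨u, v, w, k, hk, hdec⟩ : ∃ u v w k, (k = 1 ∨ ∃ t, t ≠ 0 ∧ k = hE j o t) ∧
        xe o j a * xe j o s * xe o j b = xe j o u * k * xe o j v * xe j o w := by
      rcases pair_form h3 hjo hgp with ⟨u, t, ht, e⟩ | ⟨u, c, v, hc, e⟩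
      · refine ⟨u, 0, 0, hE j o t, Or.inr ⟨t, ht, rfl⟩, ?_⟩
        rw [e, h.zero trivial trivial hjo.symm, h.zero trivial trivial hjo, mul_one, mul_one]
      · refine ⟨u + c, -c⁻¹, c + v, 1, Or.inl rfl, ?_⟩
        rw [e, wE, nT, ← h.add j o trivial trivial hjo, ← h.add j o trivial trivial hjo]
        group
    obtain ⟨m', hm', r'', hr'', hmr⟩ := hsupR ((xe j o u)⁻¹ * r' * xe j o u) (by
      have hle : closure {g : St ι K | ∃ l t, l ≠ o ∧ l ≠ j ∧ g = xe o l t} ≤
          (closure (midG (xe (K := K)) o) ⊔ R).comap (MulAut.conj (xe j o u)⁻¹).toMonoidHom := by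
        rw [closure_le]
        rintro _ ⟨l, t, hlo, hlj, rfl⟩
        simp only [SetLike.mem_coe, Subgroup.mem_comap, MulEquiv.coe_toMonoidHom, MulAut.conj_apply]
        rw [h.inv trivial trivial hjo, h.conj1 trivial trivial trivial hjo hlo.symm hlj.symm]
        exact mul_mem (mem_sup_left (subset_closure ⟨j, l, _, hjo, hlo, hlj.symm, rfl⟩))
          (mem_sup_right (subset_closure ⟨l, t, hlo, rfl⟩))
      simpa using hle hr')
    have hkP : k ∈ M ∧ k ∈ normalizer ((R : Subgroup (St ι K)) : Set (St ι K)) := by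
      rcases hk with rfl | ⟨t, ht, rfl⟩
      · exact ⟨one_mem _, one_mem _⟩
      exact ⟨hT j hjo t ht, hN j hjo t ht⟩
    have hmain : S (p * r' * (xe o j a * xe j o s * xe o j b)) := by
      refine ⟨p * xe j o u * m' * k, mul_mem (mul_mem (mul_mem hp (hcolM (subset_closure ⟨j, u, hjo, rfl⟩))) (hmidM hm')) hkP.1,
        (k⁻¹ * r'' * k) * xe o j v, mul_mem ((mem_normalizer_iff''.1 hkP.2 r'').1 hr'') (subset_closure ⟨j, v, hjo, rfl⟩),
        xe j o w, subset_closure ⟨j, w, hjo, rfl⟩, ?_⟩
      rw [hdec]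
      calc p * r' * (xe j o u * k * xe o j v * xe j o w)
          = p * xe j o u * ((xe j o u)⁻¹ * r' * xe j o u) * k * xe o j v * xe j o w := by group
        _ = _ := by rw [← hmr]; group
    have e : p * (r' * xe o j a) * (xe j o s * q') * xe o j b =
        p * r' * (xe o j a * xe j o s * xe o j b) * m * q'' := by
      rw [mul_assoc _ m q'', hmq]; group
    rw [e]
    exact hcolS _ (hmidS _ hmain m hm) q'' hq''
  have hall : ∀ g : St ι K, S g := by
    intro g
    have hg : g ∈ closure {g : St ι K | ∃ a b t, a ≠ b ∧ g = xe a b t} := closure_xe (ι := ι) (K := K) ▸ mem_top g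
    have step : ∀ (a b : ι) (t : K) (y : St ι K), a ≠ b → S y → S (y * xe a b t) := by
      intro a b t y hab hy
      by_cases hbo : b = o
      · subst hbo; exact hcolS y hy _ (subset_closure ⟨a, t, hab, rfl⟩)
      by_cases hao : a = o
      · subst hao; exact hrowS y hy b hbo t
      · exact hmidS y hy _ (subset_closure ⟨a, b, t, hao, hbo, hab, rfl⟩)
    induction hg using closure_induction_right with
    | one => exact ⟨1, one_mem _, 1, one_mem _, 1, one_mem _, by simp⟩
    | mul_right y _ s hs ih => obtain ⟨a, b, t, hab, rfl⟩ := hs; exact step a b t y hab ih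
    | mul_inv_cancel y _ s hs ih =>
      obtain ⟨a, b, t, hab, rfl⟩ := hs
      rw [h.inv trivial trivial hab]; exact step a b _ y hab ih
  obtain ⟨p, hp, r, hr, q, hq, rfl⟩ := hall c
  have hker : (toSL ι K (p * r * q)).1 = (1 : Matrix.SpecialLinearGroup ι K).1 := by
    rw [MonoidHom.mem_ker.1 hc]
  have hr1 : r = 1 := by
    refine row_inj h (toSL ι K) hθ o hr (one_mem _) fun b hb => ?_
    rw [map_mul, map_mul, mul_assoc, Matrix.SpecialLinearGroup.coe_mul, Matrix.SpecialLinearGroup.coe_mul] at hker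
    have e := congrFun (congrFun hker o) b
    rw [Matrix.mul_apply, Finset.sum_eq_single o (fun l _ hl => by rw [hline hp l hl, zero_mul]) (by simp)] at e
    rw [Matrix.mul_apply, Finset.sum_eq_single b (fun l _ hl => by
      rw [col_shape h (toSL ι K) hθ o hq l b hb, if_neg hl, mul_zero]) (by simp),
      col_shape h (toSL ι K) hθ o hq b b hb, if_pos rfl, mul_one] at e
    simp [hb.symm] at e
    have hpo : (toSL ι K p).1 o o ≠ 0 := by
      intro h0
      have hdet := (toSL ι K p).2
      rw [Matrix.det_eq_zero_of_row_eq_zero o fun l => ?_] at hdet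
      · exact zero_ne_one hdet
      · by_cases hl : l = o
        · rw [hl, h0]
        · exact hline hp l hl
    rw [map_one, Matrix.SpecialLinearGroup.coe_one, Matrix.one_apply_ne hb.symm]
    exact e.resolve_left hpo
  subst hr1
  rw [mul_one] at hker hc ⊢
  -- write the element as a product
  set H : Subgroup (St ι K) := closure {g | ∃ t, t ≠ 0 ∧ g = hE b0 o t}
  have hHmid : H ≤ normalizer ((closure (midG (xe (K := K)) o) : Subgroup (St ι K)) : Set (St ι K)) := by
    refine norm_of_gens (fun g hg => ?_) (fun g hg y hy => ?_)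
    · obtain ⟨t, ht, rfl⟩ := hg
      exact ⟨t⁻¹, inv_ne_zero ht, hinvE b0 hb0 t ht⟩
    · obtain ⟨t, ht, rfl⟩ := hg
      obtain ⟨a, b, v, ha, hb, hab, rfl⟩ := hy
      rw [hE_conj h3 hb0 ht hab]
      exact subset_closure ⟨a, b, _, ha, hb, hab, rfl⟩
  have hHQ : H ≤ normalizer ((closure (colG (xe (K := K)) o) : Subgroup (St ι K)) : Set (St ι K)) := by
    refine norm_of_gens (fun g hg => ?_) (fun g hg y hy => ?_)
    · obtain ⟨t, ht, rfl⟩ := hg
      exact ⟨t⁻¹, inv_ne_zero ht, hinvE b0 hb0 t ht⟩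
    · obtain ⟨t, ht, rfl⟩ := hg
      obtain ⟨a, v, ha, rfl⟩ := hy
      rw [hE_conj h3 hb0 ht ha]
      exact subset_closure ⟨a, _, ha, rfl⟩
  have hHform : ∀ g ∈ H, ∃ t : K, t ≠ 0 ∧ g = hE b0 o t := by
    intro g hg
    induction hg using closure_induction with
    | mem g hg => exact hg
    | one => exact ⟨1, one_ne_zero, (hE_one h3 hb0).symm⟩
    | mul g g' _ _ ih ih' =>
      obtain ⟨t, ht, rfl⟩ := ih
      obtain ⟨u, hu, rfl⟩ := ih'
      exact ⟨t * u, mul_ne_zero ht hu, hE_mul h3 hb0 ht hu⟩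
    | inv g _ ih =>
      obtain ⟨t, ht, rfl⟩ := ih
      exact ⟨t⁻¹, inv_ne_zero ht, hinvE b0 hb0 t ht⟩
  have hMle : M ≤ (H ⊔ closure (midG (xe (K := K)) o)) ⊔ closure (colG (xe (K := K)) o) := by
    rw [closure_le]
    rintro g ((hg | hg) | hg)
    · exact mem_sup_left (mem_sup_right (subset_closure hg))
    · exact mem_sup_right (subset_closure hg)
    · exact mem_sup_left (mem_sup_left (subset_closure hg))
  have hpq : p * q ∈ M := mul_mem hp (hcolM hq)
  have hmem := hMle hpq
  rw [← SetLike.mem_coe, coe_mul_of_left_le_normalizer_right _ _ (sup_le hHQ (mid_norm_col h o))] at hmem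
  obtain ⟨y, hy, q', hq', e⟩ := hmem
  rw [coe_mul_of_left_le_normalizer_right _ _ hHmid] at hy
  obtain ⟨ht', hh, m, hm, rfl⟩ := hy
  obtain ⟨t, ht, rfl⟩ := hHform ht' hh
  simp only at e
  -- the shape of the middle part
  have hshape : ∀ l, (toSL ι K m).1 o l = (if o = l then 1 else 0) ∧ (toSL ι K m).1 l o = (if l = o then 1 else 0) := by
    clear e
    induction hm using closure_induction_left with
    | one => intro l; simp [Matrix.one_apply]
    | mul_left g hg y _ ih =>
      obtain ⟨a, b, v, ha, hb, hab, rfl⟩ := hg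
      intro l
      rw [map_mul, Matrix.SpecialLinearGroup.coe_mul, coe_θ (toSL ι K) hθ hab,
        Matrix.transvection_mul_apply_of_ne _ _ _ _ ha.symm]
      refine ⟨(ih l).1, ?_⟩
      by_cases hla : l = a
      · subst hla
        rw [Matrix.transvection_mul_apply_same, (ih l).2, (ih b).2, if_neg hb, mul_zero, add_zero]
      · rw [Matrix.transvection_mul_apply_of_ne _ _ _ _ hla, (ih l).2]
    | inv_mul_cancel g hg y _ ih =>
      obtain ⟨a, b, v, ha, hb, hab, rfl⟩ := hg
      rw [h.inv trivial trivial hab]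
      intro l
      rw [map_mul, Matrix.SpecialLinearGroup.coe_mul, coe_θ (toSL ι K) hθ hab,
        Matrix.transvection_mul_apply_of_ne _ _ _ _ ha.symm]
      refine ⟨(ih l).1, ?_⟩
      by_cases hla : l = a
      · subst hla
        rw [Matrix.transvection_mul_apply_same, (ih l).2, (ih b).2, if_neg hb, mul_zero, add_zero]
      · rw [Matrix.transvection_mul_apply_of_ne _ _ _ _ hla, (ih l).2]
  rw [← e, map_mul, map_mul, Matrix.SpecialLinearGroup.coe_mul, Matrix.SpecialLinearGroup.coe_mul,
    toSL_hE hb0 ht] at hker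
  set A := Matrix.diagonal (hd b0 o t) * (toSL ι K m).1 with hA
  have hcolA : ∀ a, A a o = hd b0 o t a * (if a = o then 1 else 0) := fun a => by
    rw [hA, Matrix.diagonal_mul, (hshape a).2]
  have hrowA : ∀ b, A o b = hd b0 o t o * (if o = b then 1 else 0) := fun b => by
    rw [hA, Matrix.diagonal_mul, (hshape b).1]
  have hqoo : (toSL ι K q').1 o o = 1 := by
    clear hker e
    induction hq' using closure_induction_left with
    | one => simp
    | mul_left g hg y _ ih =>
      obtain ⟨a, v, ha, rfl⟩ := hg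
      rw [map_mul, Matrix.SpecialLinearGroup.coe_mul, coe_θ (toSL ι K) hθ ha,
        Matrix.transvection_mul_apply_of_ne _ _ _ _ ha.symm, ih]
    | inv_mul_cancel g hg y _ ih =>
      obtain ⟨a, v, ha, rfl⟩ := hg
      rw [h.inv trivial trivial ha, map_mul, Matrix.SpecialLinearGroup.coe_mul, coe_θ (toSL ι K) hθ ha,
        Matrix.transvection_mul_apply_of_ne _ _ _ _ ha.symm, ih]
  have ht1 : t = 1 := by
    have e := congrFun (congrFun hker o) o
    rw [Matrix.mul_apply, Finset.sum_eq_single o (fun l _ hl => by rw [hrowA, if_neg (Ne.symm hl), mul_zero, zero_mul])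
      (by simp), hrowA, if_pos rfl, mul_one, hqoo, mul_one, Matrix.SpecialLinearGroup.coe_one,
      Matrix.one_apply_eq] at e
    simpa [hd, hb0.symm] using e
  subst ht1
  have hm0 : hE b0 o (1 : K) = 1 := hE_one h3 hb0
  have hA1 : A = (toSL ι K m).1 := by
    rw [hA, show hd b0 o (1 : K) = fun _ => 1 by funext l; simp [hd], Matrix.diagonal_one, one_mul]
  have hq1 : q' = 1 := by
    refine col_inj h (toSL ι K) hθ o hq' (one_mem _) fun a ha => ?_
    have hinv : toSL ι K q' = toSL ι K m⁻¹ := by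
      rw [map_inv]
      refine eq_inv_of_mul_eq_one_right ?_
      apply Subtype.ext
      rw [Matrix.SpecialLinearGroup.coe_mul, ← hA1, hker]
    have hml := congrFun (congrFun (show (toSL ι K m).1 * (toSL ι K q').1 = 1 by
      rw [← hA1, hker, Matrix.SpecialLinearGroup.coe_one]) a) o
    rw [Matrix.one_apply_ne ha] at hml
    -- multiply by the inverse of the middle part
    have hmi : ∀ l, (toSL ι K m⁻¹).1 l o = if l = o then 1 else 0 := by
      intro l
      have e := congrFun (congrFun (show (toSL ι K m⁻¹).1 * (toSL ι K m).1 = 1 by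
        rw [← Matrix.SpecialLinearGroup.coe_mul, ← map_mul, inv_mul_cancel, map_one,
          Matrix.SpecialLinearGroup.coe_one]) l) o
      rw [Matrix.mul_apply, Finset.sum_eq_single o (fun i _ hi => by rw [(hshape i).2, if_neg hi, mul_zero]) (by simp),
        (hshape o).2, if_pos rfl, mul_one, Matrix.one_apply] at e
      exact e
    rw [hinv, hmi, if_neg ha, map_one, Matrix.SpecialLinearGroup.coe_one, Matrix.one_apply_ne ha]
  rw [← e, hm0, one_mul, hq1, mul_one]
  exact hm

end Cfsg.Agent.StLinear
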