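/-
The presentation of the special linear groups over finite fields, and their multipliers.
-/
import Cfsg.Agent.Lib.StLinear.Inj

set_option autoImplicit false
set_option linter.unusedSectionVars false
set_option maxHeartbeats 1000000

namespace Cfsg.Agent.StLinear

open Cfsg.Agent.CTLocal Cfsg.Agent.CTLocal.StA

universe u v

variable {K : Type v} [Field K] [Finite K]

theorem toSL_injective_aux : ∀ (n : ℕ) (ι : Type u) [Fintype ι] [DecidableEq ι], Fintype.card ι = n + 3 →
    ∀ z : St ι K, toSL ι K z = 1 → z = 1 := by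
  intro n
  induction n with
  | zero =>
    intro ι _ _ hc z hz
    have h3 : 3 ≤ Fintype.card ι := by omega
    obtain ⟨o⟩ : Nonempty ι := Fintype.card_pos_iff.1 (by omega)
    have hm := ker_le_mid h3 o (MonoidHom.mem_ker.2 hz)
    obtain ⟨a, hao, -⟩ := exists_third h3 o o
    obtain ⟨b, hbo, hba⟩ := exists_third h3 o a
    have hall : ∀ i, i ≠ o → i = a ∨ i = b := by
      intro i hi
      by_contra hne
      push Not at hne
      have h4 := Finset.card_le_univ ({o, a, b, i} : Finset ι)
      rw [Finset.card_insert_of_notMem (by simp [hao.symm, hbo.symm, Ne.symm hi]),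
        Finset.card_insert_of_notMem (by simp [hba.symm, Ne.symm hne.1]),
        Finset.card_pair (Ne.symm hne.2)] at h4
      omega
    have hm' : z ∈ Subgroup.closure ({g | ∃ t, g = xe a b t} ∪ {g | ∃ t, g = xe b a t} : Set (St ι K)) := by
      refine Subgroup.closure_mono ?_ hm
      rintro g ⟨i, j, t, hi, hj, hij, rfl⟩
      rcases hall i hi with rfl | rfl <;> rcases hall j hj with rfl | rfl
      exacts [absurd rfl hij, Or.inl ⟨t, rfl⟩, Or.inr ⟨t, rfl⟩, absurd rfl hij]
    rcases pair_form h3 hba.symm hm' with ⟨u, t, ht, e⟩ | ⟨u, c, v, hc', e⟩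
    · have e1 : Matrix.transvection a b u * Matrix.diagonal (hd a b t) = 1 := by
        rw [e, map_mul, toSL_xe a b u hba.symm] at hz
        have := congrArg Subtype.val hz
        rw [Matrix.SpecialLinearGroup.coe_mul, toSL_hE hba.symm ht, Matrix.SpecialLinearGroup.coe_one] at this
        exact this
      have hu := congrFun (congrFun e1 a) b
      have ht1 := congrFun (congrFun e1 a) a
      rw [Matrix.mul_diagonal] at hu ht1
      simp [Matrix.transvection, hd, hba, hba.symm, ht] at hu ht1
      rw [e, hu, ht1, (stRel_xe (ι := ι) (K := K)).zero trivial trivial hba.symm, hE_one h3 hba.symm, one_mul]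
    · exfalso
      rw [e, map_mul, map_mul, toSL_xe a b u hba.symm, toSL_xe a b v hba.symm] at hz
      have := congrArg Subtype.val hz
      rw [Matrix.SpecialLinearGroup.coe_mul, Matrix.SpecialLinearGroup.coe_mul, toSL_wE hba.symm hc',
        Matrix.SpecialLinearGroup.coe_one] at this
      have h2 := congrFun (congrFun this b) a
      change (Matrix.transvection a b u * mono (wμ a b c) (Equiv.swap a b) * Matrix.transvection a b v) b a =
        (1 : Matrix ι ι K) b a at h2
      rw [Matrix.mul_transvection_apply_of_ne _ _ _ _ hba.symm,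
        Matrix.transvection_mul_apply_of_ne _ _ _ _ hba, Matrix.one_apply_ne hba] at h2
      simp [mono, wμ, hc'] at h2
  | succ n ih =>
    intro ι _ _ hc z hz
    have h3 : 3 ≤ Fintype.card ι := by omega
    obtain ⟨o⟩ : Nonempty ι := Fintype.card_pos_iff.1 (by omega)
    have hm := ker_le_mid h3 o (MonoidHom.mem_ker.2 hz)
    have hS := stRel_xe (ι := ι) (K := K)
    have hne : ∀ a b : {a // a ≠ o}, a ≠ b → a.1 ≠ b.1 := fun a b h e => h (Subtype.ext e)
    obtain ⟨f, hf⟩ := exists_hom (ι := {a // a ≠ o}) (K := K) (y := fun a b t => xe a.1 b.1 t)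
      ⟨fun a b _ _ hab => hS.add a.1 b.1 trivial trivial (hne a b hab),
       fun a b c _ _ _ hab hbc hac => hS.comm1 a.1 b.1 c.1 trivial trivial trivial (hne a b hab) (hne b c hbc) (hne a c hac),
       fun a b c d _ _ _ _ hab hcd hbc had =>
         hS.comm0 a.1 b.1 c.1 d.1 trivial trivial trivial trivial (hne a b hab) (hne c d hcd) (hne b c hbc) (hne a d had)⟩
    have hle : Subgroup.closure (midG (xe (K := K)) o) ≤ f.range := by
      rw [Subgroup.closure_le]
      rintro g ⟨a, b, t, ha, hb, hab, rfl⟩
      exact ⟨xe ⟨a, ha⟩ ⟨b, hb⟩ t, hf _ _ t (fun e => hab (congrArg Subtype.val e))⟩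
    obtain ⟨w, rfl⟩ := hle hm
    have key : ∀ i j : {a // a ≠ o}, (toSL ι K (f w)).1 i.1 j.1 = (toSL {a // a ≠ o} K w).1 i j := by
      have hw : w ∈ Subgroup.closure {g : St {a // a ≠ o} K | ∃ a b t, a ≠ b ∧ g = xe a b t} :=
        closure_xe (ι := {a // a ≠ o}) (K := K) ▸ Subgroup.mem_top w
      clear hz hm
      have step : ∀ (a b : {a // a ≠ o}) (t : K) (y : St {a // a ≠ o} K), a ≠ b →
          (∀ i j : {a // a ≠ o}, (toSL ι K (f y)).1 i.1 j.1 = (toSL {a // a ≠ o} K y).1 i j) →
          ∀ i j : {a // a ≠ o}, (toSL ι K (f (xe a b t * y))).1 i.1 j.1 =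
            (toSL {a // a ≠ o} K (xe a b t * y)).1 i j := by
        intro a b t y hab hy i j
        rw [map_mul f, hf a b t hab, map_mul, map_mul, toSL_xe _ _ _ hab, toSL_xe _ _ _ (hne a b hab)]
        show (Matrix.transvection a.1 b.1 t * (toSL ι K (f y)).1) i.1 j.1 =
          (Matrix.transvection a b t * (toSL {a // a ≠ o} K y).1) i j
        by_cases hia : i = a
        · subst hia
          rw [Matrix.transvection_mul_apply_same, Matrix.transvection_mul_apply_same, hy, hy]
        · rw [Matrix.transvection_mul_apply_of_ne _ _ _ _ (fun e => hia (Subtype.ext e)),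
            Matrix.transvection_mul_apply_of_ne _ _ _ _ hia, hy]
      induction hw using Subgroup.closure_induction_left with
      | one => intro i j; simp [Matrix.one_apply, Subtype.ext_iff]
      | mul_left g hg y _ ih =>
        obtain ⟨a, b, t, hab, rfl⟩ := hg
        exact step a b t y hab ih
      | inv_mul_cancel g hg y _ ih =>
        obtain ⟨a, b, t, hab, rfl⟩ := hg
        rw [(stRel_xe (ι := {a // a ≠ o}) (K := K)).inv trivial trivial hab]
        exact step a b _ y hab ih
    have hw1 : toSL {a // a ≠ o} K w = 1 := by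
      apply Subtype.ext
      ext i j
      rw [← key, hz]
      simp [Matrix.one_apply, Subtype.ext_iff]
    rw [ih {a // a ≠ o} (by rw [Fintype.card_subtype_compl, Fintype.card_subtype_eq]; omega) w hw1, map_one]

/-- The presented group is the special linear group. -/
theorem toSL_bijective {ι : Type u} [Fintype ι] [DecidableEq ι] (h3 : 3 ≤ Fintype.card ι) :
    Function.Bijective (toSL ι K) :=
  ⟨(injective_iff_map_eq_one _).2 (toSL_injective_aux (Fintype.card ι - 3) ι (by omega)), toSL_surjective⟩

/-- The isomorphism. -/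
noncomputable def stEquiv {ι : Type u} [Fintype ι] [DecidableEq ι] (h3 : 3 ≤ Fintype.card ι) :
    St ι K ≃* Matrix.SpecialLinearGroup ι K :=
  MulEquiv.ofBijective (toSL ι K) (toSL_bijective h3)

end Cfsg.Agent.StLinear
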