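/-
Schur multipliers of the projective special linear groups.
-/
import Cfsg.Agent.Lib.StLinear.Main
import Cfsg.Agent.Lib.CurtisTits.SchurLift
import Cfsg.Agent.S2117

set_option autoImplicit false
set_option linter.unusedSectionVars false
set_option maxHeartbeats 1000000

namespace Cfsg.Agent.StLinear

open scoped commutatorElement

universe u

/-- A group with trivial multiplier that is perfect splits central extensions. -/
theorem lift_of_trivial {S G E : Type u} [Group S] [Finite S] [Group G] [Group E] [Finite E]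
    (htriv : Cfsg.HasCyclicSchurMultiplier S 1) (hperf : commutator S = ⊤) (π₁ : E →* G)
    (hπ : Function.Surjective π₁) (hc : π₁.ker ≤ Subgroup.center E) (σ : S →* G) :
    ∃ τ : S →* E, π₁.comp τ = σ := by
  set Γ : Subgroup (S × E) := (σ.comp (MonoidHom.fst _ _)).eqLocus (π₁.comp (MonoidHom.snd _ _))
  set p : Γ →* S := (MonoidHom.fst _ _).comp Γ.subtype
  have hp : Function.Surjective p := fun g => by
    obtain ⟨e, he⟩ := hπ (σ g)
    exact ⟨⟨(g, e), he.symm⟩, rfl⟩
  have hpc : p.ker ≤ Subgroup.center Γ := by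
    rintro ⟨⟨g, e⟩, hge⟩ hk
    obtain rfl : g = 1 := hk
    have he : σ 1 = π₁ e := hge
    have hcen := hc (show π₁ e = 1 by rw [← he, map_one])
    rw [Subgroup.mem_center_iff]
    rintro ⟨⟨a, b⟩, hab⟩
    exact Subtype.ext (Prod.ext (by simp) (Subgroup.mem_center_iff.1 hcen b))
  set Δ := commutator Γ
  set q : Δ →* S := p.comp Δ.subtype
  have hq : Function.Surjective q := fun g => by
    have hmap : Δ.map p = ⊤ := by
      show (commutator Γ).map p = ⊤
      rw [commutator_def, Subgroup.map_commutator, ← MonoidHom.range_eq_map, MonoidHom.range_eq_top.2 hp,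
        ← commutator_def, hperf]
    obtain ⟨a, ha, e⟩ := Subgroup.mem_map.1 (hmap ▸ Subgroup.mem_top g : g ∈ Δ.map p)
    exact ⟨⟨a, ha⟩, e⟩
  have hΔ : commutator Δ = ⊤ := by
    refine Subgroup.map_injective Δ.subtype_injective ?_
    rw [← MonoidHom.range_eq_map, Subgroup.range_subtype]
    refine le_antisymm ((Subgroup.map_le_range _ _).trans (le_of_eq (Subgroup.range_subtype _))) ?_
    show commutator Γ ≤ _
    rw [commutator_def, Subgroup.commutator_le]
    intro a _ b _
    obtain ⟨a', ha'⟩ := hq (p a)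
    obtain ⟨b', hb'⟩ := hq (p b)
    refine ⟨⁅a', b'⁆, Subgroup.commutator_mem_commutator (Subgroup.mem_top _) (Subgroup.mem_top _), ?_⟩
    rw [map_commutatorElement]
    exact elem_congr hpc ha' hb'
  have hqc : q.ker ≤ Subgroup.center Δ := fun a ha => Subgroup.mem_center_iff.2 fun b =>
    Subtype.ext (Subgroup.mem_center_iff.1 (hpc ha) b.1)
  obtain ⟨π, hπs⟩ := htriv.2 Δ q ⟨hq, hqc, by rw [hΔ]; exact le_top⟩
  have hinj : Function.Injective q := (injective_iff_map_eq_one q).2 fun a ha => by
    obtain ⟨z, hz⟩ := hπs ⟨a, ha⟩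
    rw [Subsingleton.elim z 1, map_one] at hz
    exact congrArg Subtype.val hz.symm
  set e := MulEquiv.ofBijective q ⟨hinj, hq⟩
  refine ⟨(MonoidHom.snd _ _).comp (Γ.subtype.comp (Δ.subtype.comp e.symm.toMonoidHom)), MonoidHom.ext fun g => ?_⟩
  show π₁ (e.symm g).1.1.2 = σ g
  conv_rhs => rw [← e.apply_symm_apply g]
  exact ((e.symm g).1.2 : σ (e.symm g).1.1.1 = π₁ (e.symm g).1.1.2).symm

variable {F : Type u} [Field F] [Fintype F]

theorem center_equiv (n : ℕ) (hn : 1 ≤ n) :
    Nonempty (Subgroup.center (Matrix.SpecialLinearGroup (Fin n) F) ≃*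
      Multiplicative (ZMod (Nat.gcd n (Fintype.card F - 1)))) := by
  classical
  haveI : Nonempty (Fin n) := ⟨⟨0, hn⟩⟩
  have hcard := LinGrp.natCard_center_SL (F := F) (n := Fin n)
  rw [Fintype.card_fin, Nat.card_eq_fintype_card (α := F)] at hcard
  let e := Matrix.SpecialLinearGroup.center_equiv_rootsOfUnity' (R := F) (Classical.arbitrary (Fin n))
  haveI : IsCyclic (Subgroup.center (Matrix.SpecialLinearGroup (Fin n) F)) := by
    haveI : NeZero (Fintype.card (Fin n)) := ⟨by simp; omega⟩
    exact isCyclic_of_surjective e.symm.toMonoidHom e.symm.surjective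
  rw [← hcard]
  exact ⟨(zmodCyclicMulEquiv inferInstance).symm⟩

/-- The multiplier of `PSL_n`. -/
theorem schur_PSL {n : ℕ} (hn : 2 ≤ n) (h2 : n = 2 → 4 ≤ Fintype.card F)
    (hexc : (n, Fintype.card F) ∉ ({(2, 4), (2, 9), (3, 2), (3, 4), (4, 2)} : Set (ℕ × ℕ))) :
    Cfsg.HasCyclicSchurMultiplier (Matrix.ProjectiveSpecialLinearGroup (Fin n) F)
      (Nat.gcd n (Fintype.card F - 1)) := by
  classical
  simp only [Set.mem_insert_iff, Set.mem_singleton_iff, Prod.mk.injEq, not_or] at hexc
  obtain ⟨e24, e29, e32, e34, e42⟩ := hexc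
  have hroot : ∀ d : ℕ, 0 < d → d < Fintype.card F - 1 → ∃ a : F, a ≠ 0 ∧ a ^ d ≠ 1 := by
    intro d hd hlt
    obtain ⟨g, hg⟩ := IsCyclic.exists_generator (α := Fˣ)
    refine ⟨g, g.ne_zero, fun h => ?_⟩
    have h1 : g ^ d = 1 := Units.ext (by simpa using h)
    have := orderOf_le_of_pow_eq_one hd h1
    rw [orderOf_eq_card_of_forall_mem_zpowers hg, Nat.card_eq_fintype_card, Fintype.card_units] at this
    omega
  obtain ⟨ec⟩ := center_equiv (F := F) n (by omega)
  have hperf : commutator (Matrix.SpecialLinearGroup (Fin n) F) = ⊤ := by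
    rcases Nat.lt_or_ge n 3 with h | h
    · obtain rfl : n = 2 := by omega
      obtain ⟨a, ha, ha2⟩ := hroot 2 (by omega) (by have := h2 rfl; omega)
      exact Matrix.SL2.commutator_eq_top ha ha2
    · exact LinGrp.commutator_SL_eq_top (by simpa using h)
  refine Chev.CT.hasSchur_of_cover (QuotientGroup.mk' _) (QuotientGroup.mk'_surjective _)
    (le_of_eq (QuotientGroup.ker_mk' _)) hperf (fun Γ _ _ σ hσ hσc => ?_)
    ((MulEquiv.subgroupCongr (QuotientGroup.ker_mk' _)).trans ec)
  rcases Nat.lt_or_ge n 3 with h | h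
  · obtain rfl : n = 2 := by omega
    exact lift_of_trivial (Cfsg.Agent.S2117.result (fun e => e24 ⟨rfl, e⟩) (fun e => e29 ⟨rfl, e⟩)) hperf σ hσ hσc _
  have h3 : 3 ≤ Fintype.card (Fin n) := by simpa using h
  have B : Big (Fin n) F := by
    refine ⟨h3, fun hc => ?_, fun hc => ?_⟩
    · obtain rfl : n = 3 := by simpa using hc
      by_cases hq : Fintype.card F = 3
      · have h3' : ((3 : ℕ) : F) = 0 := by rw [← hq]; exact Nat.cast_card_eq_zero F
        refine ⟨-1, neg_ne_zero.2 one_ne_zero, fun h => one_ne_zero (α := F) ?_⟩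
        push_cast at h3'
        linear_combination h3' + h
      · have h2' : 2 ≤ Fintype.card F := Fintype.one_lt_card
        exact hroot 3 (by norm_num) (by
          have : Fintype.card F ≠ 2 := fun e => e32 ⟨rfl, e⟩
          have : Fintype.card F ≠ 4 := fun e => e34 ⟨rfl, e⟩
          omega)
    · obtain rfl : n = 4 := by simpa using hc
      by_cases hq : Fintype.card F = 3
      · refine Or.inl fun h2' => one_ne_zero (α := F) ?_
        have h3' : ((3 : ℕ) : F) = 0 := by rw [← hq]; exact Nat.cast_card_eq_zero F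
        push_cast at h3'
        linear_combination h3' - h2'
      · have h2' : 2 ≤ Fintype.card F := Fintype.one_lt_card
        exact Or.inr (hroot 2 (by norm_num) (by
          have : Fintype.card F ≠ 2 := fun e => e42 ⟨rfl, e⟩
          omega))
  set i := stEquiv (K := F) h3
  obtain ⟨τ, hτ⟩ := exists_lift B σ hσ hσc
    ((QuotientGroup.mk' (Subgroup.center (Matrix.SpecialLinearGroup (Fin n) F))).comp i.toMonoidHom)
  refine ⟨τ.comp i.symm.toMonoidHom, MonoidHom.ext fun g => ?_⟩
  have := DFunLike.congr_fun hτ (i.symm g)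
  simpa using this

end Cfsg.Agent.StLinear
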